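import Cfsg.Agent.Lib.Linear.ShortPres.SpFour.Spread

/-!
# Short presentations of `Sp₄`: the covering bound
-/

set_option autoImplicit false

namespace Cfsg.Lib.Linear.ShortPres.Four

open Matrix
open scoped MatrixGroups

variable {F : Type*} [Field F] [Fintype F] {P : Type*} [Group P] (S : Frame F P)

namespace Frame

/-- The parabolic part. -/
def InP (x : P) : Prop := ∃ t v w, ∃ y : SL(2, F), ∃ r : Fˣ, x = S.Xb t * S.Xc v * S.Xd w * (S.A y * S.B (ds r))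

/-- The second cell. -/
def In1 (x : P) : Prop := ∃ t p, S.InP p ∧ x = S.Xb t * S.wb * p

/-- The third cell. -/
def In2 (x : P) : Prop := ∃ w s p, S.InP p ∧ x = S.Xd w * S.Xa s * S.wa * S.wb * p

/-- The fourth cell. -/
def In3 (x : P) : Prop := ∃ t v w p, S.InP p ∧ x = S.Xb t * S.Xc v * S.Xd w * (S.wb * S.wa * S.wb) * p

/-- All cells. -/
def InS (x : P) : Prop := S.InP x ∨ S.In1 x ∨ S.In2 x ∨ S.In3 x

theorem inP_one : S.InP 1 := ⟨0, 0, 0, 1, 1, by simp [Xb_zero, Xc_zero, Xd_zero, ds_one]⟩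

theorem T_swap {y : P} (hy : y ∈ S.T) :
    (∃ r : F, ∀ s, y * S.Xa s = S.Xa (r * s) * y) ∧ (∃ r : F, ∀ s, y * S.Xb s = S.Xb (r * s) * y) ∧
    (∃ r : F, ∀ s, y * S.Xc s = S.Xc (r * s) * y) ∧ (∃ r : F, ∀ s, y * S.Xd s = S.Xd (r * s) * y) := by
  obtain ⟨⟨a, ha⟩, ⟨b, hb⟩, ⟨c, hc⟩, ⟨d, hd⟩⟩ := S.T_scale hy
  exact ⟨⟨a, fun s => mul_inv_eq_iff_eq_mul.1 (ha s)⟩, ⟨b, fun s => mul_inv_eq_iff_eq_mul.1 (hb s)⟩,
    ⟨c, fun s => mul_inv_eq_iff_eq_mul.1 (hc s)⟩, ⟨d, fun s => mul_inv_eq_iff_eq_mul.1 (hd s)⟩⟩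

/-- Pushing the torus through the reflections. -/
theorem T_push {y : P} (hy : y ∈ S.T) :
    (∃ z ∈ S.T, y * S.wa = S.wa * z) ∧ (∃ z ∈ S.T, y * S.wb = S.wb * z) :=
  ⟨⟨_, (S.w_norm hy).2.2.1, by simp [mul_assoc]⟩, ⟨_, (S.w_norm hy).2.2.2, by simp [mul_assoc]⟩⟩

theorem B_ds_A (r : Fˣ) (y : SL(2, F)) : ∃ y', S.B (ds r) * S.A y = S.A y' * S.B (ds r) := by
  obtain ⟨i, rfl⟩ := S.hgen r
  induction i generalizing y with
  | zero => exact ⟨y, by simp [ds_one]⟩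
  | succ i ih =>
    obtain ⟨y', hy'⟩ := ih (adj S.ζ y)
    refine ⟨y', ?_⟩
    rw [pow_succ, ds_mul, map_mul, mul_assoc, mul_inv_eq_iff_eq_mul.1 (S.hb_A y), ← mul_assoc, hy', mul_assoc]

variable (hF : S.Full)

theorem inP_Xb {x : P} (hx : S.InP x) (s : F) : S.InP (S.Xb s * x) := by
  obtain ⟨t, v, w, y, r, rfl⟩ := hx
  exact ⟨s + t, v, w, y, r, by simp [Xb_add, mul_assoc]⟩

include hF

theorem inP_Xc {x : P} (hx : S.InP x) (s : F) : S.InP (S.Xc s * x) := by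
  obtain ⟨t, v, w, y, r, rfl⟩ := hx
  refine ⟨t, s + v, w, y, r, ?_⟩
  simp only [← mul_assoc]
  rw [← (hF.bc t s).eq, Xc_add]
  simp [mul_assoc]

theorem inP_Xd {x : P} (hx : S.InP x) (s : F) : S.InP (S.Xd s * x) := by
  obtain ⟨t, v, w, y, r, rfl⟩ := hx
  refine ⟨t, v, s + w, y, r, ?_⟩
  simp only [← mul_assoc]
  rw [← (hF.bd t s).eq, mul_assoc (S.Xb t), ← (hF.cd v s).eq, Xd_add]
  simp [mul_assoc]

omit hF

theorem inP_T {x z : P} (hx : S.InP x) (hz : z ∈ S.T) : S.InP (z * x) := by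
  obtain ⟨t, v, w, y, r, rfl⟩ := hx
  obtain ⟨-, ⟨b, hb⟩, ⟨c, hc⟩, ⟨d, hd⟩⟩ := S.T_swap hz
  obtain ⟨r1, r2, rfl⟩ := S.T_repr hz
  obtain ⟨y', hy'⟩ := S.B_ds_A r2 y
  refine ⟨b * t, c * v, d * w, ds r1 * y', r2 * r, ?_⟩
  set z := S.A (ds r1) * S.B (ds r2)
  calc z * (S.Xb t * S.Xc v * S.Xd w * (S.A y * S.B (ds r)))
      = z * S.Xb t * S.Xc v * S.Xd w * (S.A y * S.B (ds r)) := by simp [mul_assoc]
    _ = S.Xb (b * t) * S.Xc (c * v) * (z * S.Xd w) * (S.A y * S.B (ds r)) := by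
      rw [hb, mul_assoc (S.Xb _) z, hc]; simp [mul_assoc]
    _ = S.Xb (b * t) * S.Xc (c * v) * S.Xd (d * w) * (S.A (ds r1) * (S.B (ds r2) * S.A y) * S.B (ds r)) := by
      rw [hd]; simp [z, mul_assoc]
    _ = _ := by rw [hy', map_mul, ds_mul, map_mul]; simp [mul_assoc]

include hF

theorem inP_Xa {x : P} (hx : S.InP x) (s : F) : S.InP (S.Xa s * x) := by
  obtain ⟨t, v, w, y, r, rfl⟩ := hx
  have h : S.InP (S.Xd (2 * s * v) * (S.Xd (s ^ 2 * t) * (S.Xc (s * t) * (S.Xb t * S.Xc v * S.Xd w *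
      (S.A (xs s * y) * S.B (ds r)))))) :=
    S.inP_Xd hF (S.inP_Xd hF (S.inP_Xc hF ⟨t, v, w, _, r, rfl⟩ _) _) _
  obtain ⟨t', v', w', y', r', he⟩ := h
  refine ⟨t', v', w', y', r', ?_⟩
  rw [← he]
  calc S.Xa s * (S.Xb t * S.Xc v * S.Xd w * (S.A y * S.B (ds r)))
      = (S.Xd (s ^ 2 * t) * S.Xc (s * t) * S.Xb t) * (S.Xa s * S.Xc v) * S.Xd w * (S.A y * S.B (ds r)) := by
        simp only [← mul_assoc]
        rw [hF.ab]
    _ = (S.Xd (s ^ 2 * t) * S.Xc (s * t) * S.Xb t) * S.Xd (2 * s * v) * S.Xc v * (S.Xa s * S.Xd w) *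
        (S.A y * S.B (ds r)) := by rw [hF.ac]; simp [mul_assoc]
    _ = ((S.Xd (s ^ 2 * t) * S.Xc (s * t) * S.Xb t) * S.Xd (2 * s * v)) * S.Xc v * S.Xd w *
        (S.A (xs s * y) * S.B (ds r)) := by rw [(hF.ad s w).eq, map_mul]; simp [Xa, mul_assoc]
    _ = _ := by
      have e : (S.Xd (s ^ 2 * t) * S.Xc (s * t) * S.Xb t) * S.Xd (2 * s * v) =
          S.Xd (2 * s * v) * (S.Xd (s ^ 2 * t) * S.Xc (s * t) * S.Xb t) := by
        refine (Commute.mul_left (Commute.mul_left ?_ (hF.cd _ _)) (hF.bd _ _)).eq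
        show _ = _
        rw [← Xd_add, ← Xd_add, add_comm]
      rw [e]; simp [mul_assoc]

theorem reorder (t v w : F) : S.Xd w * S.Xc v * S.Xb t = S.Xb t * S.Xc v * S.Xd w := by
  calc S.Xd w * S.Xc v * S.Xb t = S.Xd w * (S.Xb t * S.Xc v) := by rw [mul_assoc, (hF.bc t v).eq]
    _ = _ := ((hF.bd t w).mul_left (hF.cd v w)).eq.symm

theorem wa_moves : (∀ t, S.wa * S.Xb t = S.Xd t * S.wa) ∧ (∀ v, S.wa * S.Xc v = S.Xc (-v) * S.wa) ∧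
    (∀ w, ∃ t, S.wa * S.Xd w = S.Xb t * S.wa) := by
  refine ⟨fun t => by simp [wa, Xb, Xd, mul_assoc], fun v => mul_inv_eq_iff_eq_mul.1 (hF.wa_c v), fun w => ?_⟩
  obtain ⟨-, ⟨b, hb⟩, -, -⟩ := S.T_scale S.wa_sq
  refine ⟨(b : F) * w, ?_⟩
  rw [← hb]; simp [wa, Xb, Xd, mul_assoc]

theorem wb_moves : (∀ s, S.wb * S.Xa s = S.Xc (-s) * S.wb) ∧ (∀ w, S.wb * S.Xd w = S.Xd w * S.wb) ∧
    (∀ v, ∃ s, S.wb * S.Xc v = S.Xa s * S.wb) ∧ (∀ s, ∃ v, S.Xa s * S.wb = S.wb * S.Xc v) ∧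
    (∀ v, ∃ s, S.Xc v * S.wb = S.wb * S.Xa s) ∧ (∀ w, S.Xd w * S.wb = S.wb * S.Xd w) := by
  obtain ⟨⟨a, ha⟩, -, -, -⟩ := S.T_scale S.wb_sq
  have h1 : ∀ s, S.wb * S.Xa s = S.Xc (-s) * S.wb := fun s => by simp [wb, Xa, Xc, mul_assoc]
  have h2 : ∀ w, S.wb * S.Xd w = S.Xd w * S.wb := fun w => mul_inv_eq_iff_eq_mul.1 (hF.wb_d w)
  have h3 : ∀ v, ∃ s, S.wb * S.Xc v = S.Xa s * S.wb := fun v => ⟨(a : F) * -v, by
    rw [← ha]; simp [wb, Xa, Xc, mul_assoc]⟩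
  refine ⟨h1, h2, h3, fun s => ?_, fun v => ⟨-v, by rw [h1, neg_neg]⟩, fun w => (h2 w).symm⟩
  obtain ⟨v', hv'⟩ : ∃ v', S.Xa s = S.wb * S.wb * S.Xa v' * (S.wb * S.wb)⁻¹ := ⟨((a⁻¹ : Fˣ) : F) * s, by
    rw [ha, ← mul_assoc, Units.mul_inv, one_mul]⟩
  refine ⟨-v', ?_⟩
  rw [hv']; simp [wb, Xa, Xc, mul_assoc]

theorem inP_A {x : P} (hx : S.InP x) (z : SL(2, F)) : S.InP (S.A z * x) := by
  obtain ⟨hwb, hwc, hwd⟩ := S.wa_moves hF
  let W : Subgroup SL(2, F) :=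
    { carrier := {z | ∀ p, (S.InP p → S.InP (S.A z * p)) ∧ (S.InP p → S.InP (S.A z⁻¹ * p))}
      one_mem' := fun p => ⟨fun h => by simpa using h, fun h => by simpa using h⟩
      mul_mem' := fun {a b} ha hb p => ⟨fun h => by
        rw [map_mul, mul_assoc]; exact (ha _).1 ((hb _).1 h), fun h => by
        rw [_root_.mul_inv_rev, map_mul, mul_assoc]; exact (hb _).2 ((ha _).2 h)⟩
      inv_mem' := fun {a} ha p => ⟨(ha p).2, fun h => by rw [inv_inv]; exact (ha p).1 h⟩ }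
  suffices hW : W = ⊤ by
    have : z ∈ W := by rw [hW]; trivial
    exact (this x).1 hx
  have hwa : ∀ p, S.InP p → S.InP (S.A ts * p) := by
    rintro p ⟨t, v, w, y, r, rfl⟩
    obtain ⟨t', ht'⟩ := hwd w
    refine ⟨t', -v, t, ts * y, r, ?_⟩
    calc S.A ts * (S.Xb t * S.Xc v * S.Xd w * (S.A y * S.B (ds r)))
        = S.wa * S.Xb t * S.Xc v * S.Xd w * (S.A y * S.B (ds r)) := by simp [wa, mul_assoc]
      _ = S.Xd t * S.Xc (-v) * (S.wa * S.Xd w) * (S.A y * S.B (ds r)) := by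
        rw [hwb, mul_assoc (S.Xd t) S.wa, hwc]; simp [mul_assoc]
      _ = (S.Xd t * S.Xc (-v) * S.Xb t') * (S.A (ts * y) * S.B (ds r)) := by
        rw [ht', map_mul]; simp [wa, mul_assoc]
      _ = _ := by rw [S.reorder hF]
  refine closure_gens (fun c p => ⟨fun h => S.inP_Xa hF h c, fun h => ?_⟩) fun p => ⟨fun h => hwa p h, fun h => ?_⟩
  · rw [← xs_neg]; exact S.inP_Xa hF h (-c)
  · have e : S.A ts⁻¹ = (S.wa * S.wa)⁻¹ * S.A ts := by simp [wa]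
    rw [e, mul_assoc]
    exact S.inP_T (hwa p h) (inv_mem S.wa_sq)

theorem inS_T {x z : P} (hx : S.InS x) (hz : z ∈ S.T) : S.InS (z * x) := by
  obtain ⟨⟨a, ha⟩, ⟨b, hb⟩, ⟨c, hc⟩, ⟨d, hd⟩⟩ := S.T_swap hz
  rcases hx with h | ⟨t, p, hp, rfl⟩ | ⟨w, s, p, hp, rfl⟩ | ⟨t, v, w, p, hp, rfl⟩
  · exact Or.inl (S.inP_T h hz)
  · obtain ⟨z', hz', he⟩ := (S.T_push hz).2
    refine Or.inr (Or.inl ⟨b * t, z' * p, S.inP_T hp hz', ?_⟩)
    rw [← mul_assoc, ← mul_assoc, hb, mul_assoc (S.Xb _) z, he]; simp [mul_assoc]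
  · obtain ⟨z1, hz1, he1⟩ := (S.T_push hz).1
    obtain ⟨z2, hz2, he2⟩ := (S.T_push hz1).2
    refine Or.inr (Or.inr (Or.inl ⟨d * w, a * s, z2 * p, S.inP_T hp hz2, ?_⟩))
    calc z * (S.Xd w * S.Xa s * S.wa * S.wb * p) = z * S.Xd w * S.Xa s * S.wa * S.wb * p := by simp [mul_assoc]
      _ = S.Xd (d * w) * S.Xa (a * s) * (z * S.wa) * S.wb * p := by
        rw [hd, mul_assoc (S.Xd _) z, ha]; simp [mul_assoc]
      _ = S.Xd (d * w) * S.Xa (a * s) * S.wa * (z1 * S.wb) * p := by rw [he1]; simp [mul_assoc]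
      _ = _ := by rw [he2]; simp [mul_assoc]
  · obtain ⟨z1, hz1, he1⟩ := (S.T_push hz).2
    obtain ⟨z2, hz2, he2⟩ := (S.T_push hz1).1
    obtain ⟨z3, hz3, he3⟩ := (S.T_push hz2).2
    refine Or.inr (Or.inr (Or.inr ⟨b * t, c * v, d * w, z3 * p, S.inP_T hp hz3, ?_⟩))
    calc z * (S.Xb t * S.Xc v * S.Xd w * (S.wb * S.wa * S.wb) * p)
        = z * S.Xb t * S.Xc v * S.Xd w * S.wb * S.wa * S.wb * p := by simp [mul_assoc]
      _ = S.Xb (b * t) * S.Xc (c * v) * (z * S.Xd w) * S.wb * S.wa * S.wb * p := by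
        rw [hb, mul_assoc (S.Xb _) z, hc]; simp [mul_assoc]
      _ = S.Xb (b * t) * S.Xc (c * v) * S.Xd (d * w) * (z * S.wb) * S.wa * S.wb * p := by
        rw [hd]; simp [mul_assoc]
      _ = S.Xb (b * t) * S.Xc (c * v) * S.Xd (d * w) * S.wb * (z1 * S.wa) * S.wb * p := by rw [he1]; simp [mul_assoc]
      _ = S.Xb (b * t) * S.Xc (c * v) * S.Xd (d * w) * S.wb * S.wa * (z2 * S.wb) * p := by rw [he2]; simp [mul_assoc]
      _ = _ := by rw [he3]; simp [mul_assoc]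

theorem in1_cd {x : P} (hx : S.In1 x) (v w : F) : S.In1 (S.Xc v * (S.Xd w * x)) := by
  obtain ⟨t, p, hp, rfl⟩ := hx
  obtain ⟨-, -, -, -, h5, h6⟩ := S.wb_moves hF
  obtain ⟨s, hs⟩ := h5 v
  refine ⟨t, S.Xa s * (S.Xd w * p), S.inP_Xa hF (S.inP_Xd hF hp w) s, ?_⟩
  calc S.Xc v * (S.Xd w * (S.Xb t * S.wb * p)) = S.Xc v * (S.Xd w * S.Xb t) * S.wb * p := by simp [mul_assoc]
    _ = (S.Xc v * S.Xb t) * (S.Xd w * S.wb) * p := by rw [← (hF.bd t w).eq]; simp [mul_assoc]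
    _ = S.Xb t * (S.Xc v * S.wb) * S.Xd w * p := by rw [h6, ← (hF.bc t v).eq]; simp [mul_assoc]
    _ = _ := by rw [hs]; simp [mul_assoc]

theorem in2_cd {x : P} (hx : S.In2 x) (v w : F) : S.In2 (S.Xc v * (S.Xd w * x)) := by
  obtain ⟨w', s, p, hp, rfl⟩ := hx
  obtain ⟨-, hwc, -⟩ := S.wa_moves hF
  obtain ⟨-, -, -, -, h5, -⟩ := S.wb_moves hF
  obtain ⟨a, ha⟩ := h5 (-v)
  refine ⟨-(2 * s * v) + (w + w'), s, S.Xa a * p, S.inP_Xa hF hp a, ?_⟩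
  have e : S.Xc v * S.Xa s = S.Xd (-(2 * s * v)) * S.Xa s * S.Xc v := by
    rw [mul_assoc _ (S.Xa s), hF.ac, ← mul_assoc, ← mul_assoc, ← Xd_add, neg_add_cancel, Xd_zero, one_mul]
  have e2 : S.Xc v * S.wa = S.wa * S.Xc (-v) := by rw [hwc, neg_neg]
  calc S.Xc v * (S.Xd w * (S.Xd w' * S.Xa s * S.wa * S.wb * p))
      = S.Xc v * S.Xd (w + w') * S.Xa s * S.wa * S.wb * p := by rw [Xd_add]; simp [mul_assoc]
    _ = S.Xd (w + w') * (S.Xc v * S.Xa s) * S.wa * S.wb * p := by rw [(hF.cd v _).eq]; simp [mul_assoc]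
    _ = S.Xd (w + w') * S.Xd (-(2 * s * v)) * S.Xa s * (S.Xc v * S.wa) * S.wb * p := by rw [e]; simp [mul_assoc]
    _ = S.Xd (w + w') * S.Xd (-(2 * s * v)) * S.Xa s * S.wa * (S.Xc (-v) * S.wb) * p := by rw [e2]; simp [mul_assoc]
    _ = _ := by rw [ha, ← Xd_add, add_comm]; simp [mul_assoc]

theorem inS_Xa {x : P} (hx : S.InS x) (s : F) : S.InS (S.Xa s * x) := by
  obtain ⟨-, -, h3, h4, h5, h6⟩ := S.wb_moves hF
  rcases hx with h | ⟨t, p, hp, rfl⟩ | ⟨w, s', p, hp, rfl⟩ | ⟨t, v, w, p, hp, rfl⟩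
  · exact Or.inl (S.inP_Xa hF h s)
  · obtain ⟨c, hc⟩ := h4 s
    obtain ⟨t', p', hp', he⟩ := S.in1_cd hF ⟨t, S.Xc c * p, S.inP_Xc hF hp c, rfl⟩ (s * t) (s ^ 2 * t)
    refine Or.inr (Or.inl ⟨t', p', hp', ?_⟩)
    rw [← he]
    calc S.Xa s * (S.Xb t * S.wb * p) = S.Xd (s ^ 2 * t) * S.Xc (s * t) * S.Xb t * (S.Xa s * S.wb) * p := by
          rw [← mul_assoc, ← mul_assoc, hF.ab]; simp [mul_assoc]
      _ = _ := by rw [hc, ← (hF.cd (s * t) (s ^ 2 * t)).eq]; simp [mul_assoc]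
  · refine Or.inr (Or.inr (Or.inl ⟨w, s + s', p, hp, ?_⟩))
    rw [← mul_assoc, ← mul_assoc, ← mul_assoc, ← mul_assoc, (hF.ad s w).eq, Xa_add]
    simp [mul_assoc]
  · obtain ⟨c, hc⟩ := h4 s
    obtain ⟨a, ha⟩ := h5 (-c)
    obtain ⟨-, hwc, -⟩ := S.wa_moves hF
    have e : S.Xc c * S.wa = S.wa * S.Xc (-c) := by rw [hwc, neg_neg]
    refine Or.inr (Or.inr (Or.inr ⟨t, s * t + v, s ^ 2 * t + 2 * s * v + w, S.Xa a * p, S.inP_Xa hF hp a, ?_⟩))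
    have hV : S.Xa s * (S.Xb t * S.Xc v * S.Xd w) =
        S.Xb t * S.Xc (s * t + v) * S.Xd (s ^ 2 * t + 2 * s * v + w) * S.Xa s := by
      calc S.Xa s * (S.Xb t * S.Xc v * S.Xd w) = S.Xd (s ^ 2 * t) * S.Xc (s * t) * S.Xb t * (S.Xa s * S.Xc v) * S.Xd w := by
            rw [← mul_assoc, ← mul_assoc, hF.ab]; simp [mul_assoc]
        _ = S.Xd (s ^ 2 * t) * S.Xc (s * t) * (S.Xb t * S.Xd (2 * s * v)) * S.Xc v * (S.Xa s * S.Xd w) := by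
            rw [hF.ac]; simp [mul_assoc]
        _ = S.Xd (s ^ 2 * t) * (S.Xc (s * t) * S.Xd (2 * s * v)) * S.Xb t * (S.Xc v * S.Xd w) * S.Xa s := by
            rw [(hF.bd _ _).eq, (hF.ad _ _).eq]; simp [mul_assoc]
        _ = S.Xd (s ^ 2 * t + 2 * s * v) * (S.Xc (s * t) * S.Xb t) * (S.Xc v * S.Xd w) * S.Xa s := by
            rw [(hF.cd _ _).eq, Xd_add]; simp [mul_assoc]
        _ = _ := by
            rw [← (hF.bc _ _).eq, Xd_add _ _ w, Xc_add]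
            have e1 : ∀ z, S.Xd (s ^ 2 * t + 2 * s * v) * z = S.Xd (s ^ 2 * t + 2 * s * v) * z := fun _ => rfl
            have hc1 : Commute (S.Xb t * (S.Xc (s * t) * S.Xc v)) (S.Xd (s ^ 2 * t + 2 * s * v)) :=
              (hF.bd _ _).mul_left ((hF.cd _ _).mul_left (hF.cd _ _))
            calc S.Xd (s ^ 2 * t + 2 * s * v) * (S.Xb t * S.Xc (s * t)) * (S.Xc v * S.Xd w) * S.Xa s
                = (S.Xd (s ^ 2 * t + 2 * s * v) * (S.Xb t * (S.Xc (s * t) * S.Xc v))) * S.Xd w * S.Xa s := by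
                  simp [mul_assoc]
              _ = _ := by rw [← hc1.eq]; simp [mul_assoc]
    calc S.Xa s * (S.Xb t * S.Xc v * S.Xd w * (S.wb * S.wa * S.wb) * p)
        = S.Xa s * (S.Xb t * S.Xc v * S.Xd w) * S.wb * S.wa * S.wb * p := by simp [mul_assoc]
      _ = S.Xb t * S.Xc (s * t + v) * S.Xd (s ^ 2 * t + 2 * s * v + w) * (S.Xa s * S.wb) * S.wa * S.wb * p := by
          rw [hV]; simp [mul_assoc]
      _ = S.Xb t * S.Xc (s * t + v) * S.Xd (s ^ 2 * t + 2 * s * v + w) * S.wb * (S.Xc c * S.wa) * S.wb * p := by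
          rw [hc]; simp [mul_assoc]
      _ = S.Xb t * S.Xc (s * t + v) * S.Xd (s ^ 2 * t + 2 * s * v + w) * S.wb * S.wa * (S.Xc (-c) * S.wb) * p := by
          rw [e]; simp [mul_assoc]
      _ = _ := by rw [ha]; simp [mul_assoc]

theorem in2_Xb {x : P} (hx : S.In2 x) (t : F) : S.In2 (S.Xb t * x) := by
  obtain ⟨-, -, -, -, h5, h6⟩ := S.wb_moves hF
  obtain ⟨hwb, hwc, -⟩ := S.wa_moves hF
  obtain ⟨w, s, p, hp, rfl⟩ := hx
  have e : S.Xb t * S.Xa s = S.Xc (-(s * t)) * S.Xd (-(s ^ 2 * t)) * S.Xa s * S.Xb t := by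
    rw [mul_assoc _ (S.Xa s), hF.ab]
    have hc : ∀ v, S.Xc (-v) * S.Xc v = 1 := fun v => by rw [← Xc_add, neg_add_cancel, Xc_zero]
    have hd : ∀ v, S.Xd (-v) * S.Xd v = 1 := fun v => by rw [← Xd_add, neg_add_cancel, Xd_zero]
    calc S.Xb t * S.Xa s = (S.Xc (-(s * t)) * S.Xc (s * t)) * S.Xb t * S.Xa s := by rw [hc, one_mul]
      _ = S.Xc (-(s * t)) * (S.Xd (-(s ^ 2 * t)) * S.Xd (s ^ 2 * t)) * S.Xc (s * t) * S.Xb t * S.Xa s := by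
          rw [hd, mul_one]
      _ = _ := by simp [mul_assoc]
  obtain ⟨wb', hwb'⟩ : ∃ w', S.Xb t * S.wa = S.wa * S.Xd w' := by
    obtain ⟨-, ⟨b, hb⟩, -, -⟩ := S.T_scale S.wa_sq
    refine ⟨((b⁻¹ : Fˣ) : F) * t, ?_⟩
    have h := hb (((b⁻¹ : Fˣ) : F) * t)
    rw [← mul_assoc, Units.mul_inv, one_mul] at h
    rw [← h]; simp [wa, Xb, Xd, mul_assoc]
  obtain ⟨w2, s2, p2, hp2, he⟩ :=
    S.in2_cd hF ⟨w, s, S.Xd wb' * p, S.inP_Xd hF hp wb', rfl⟩ (-(s * t)) (-(s ^ 2 * t))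
  refine ⟨w2, s2, p2, hp2, ?_⟩
  rw [← he]
  calc S.Xb t * (S.Xd w * S.Xa s * S.wa * S.wb * p) = (S.Xb t * S.Xd w) * S.Xa s * S.wa * S.wb * p := by
        simp [mul_assoc]
    _ = S.Xd w * (S.Xb t * S.Xa s) * S.wa * S.wb * p := by rw [(hF.bd _ _).eq]; simp [mul_assoc]
    _ = (S.Xd w * (S.Xc (-(s * t)) * S.Xd (-(s ^ 2 * t)))) * S.Xa s * (S.Xb t * S.wa) * S.wb * p := by
        rw [e]; simp [mul_assoc]
    _ = (S.Xc (-(s * t)) * S.Xd (-(s ^ 2 * t)) * S.Xd w) * S.Xa s * S.wa * (S.Xd wb' * S.wb) * p := by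
        rw [hwb', show S.Xd w * (S.Xc (-(s * t)) * S.Xd (-(s ^ 2 * t))) = S.Xc (-(s * t)) * S.Xd (-(s ^ 2 * t)) * S.Xd w by
          rw [← mul_assoc, ← (hF.cd _ _).eq, mul_assoc, ← Xd_add, add_comm, Xd_add, ← mul_assoc]]
        simp [mul_assoc]
    _ = _ := by rw [h6]; simp [mul_assoc]

theorem inS_Xb {x : P} (hx : S.InS x) (t : F) : S.InS (S.Xb t * x) := by
  obtain ⟨-, -, -, -, h5, h6⟩ := S.wb_moves hF
  obtain ⟨hwb, hwc, -⟩ := S.wa_moves hF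
  rcases hx with h | ⟨t', p, hp, rfl⟩ | ⟨w, s, p, hp, rfl⟩ | ⟨t', v, w, p, hp, rfl⟩
  · exact Or.inl (S.inP_Xb h t)
  · exact Or.inr (Or.inl ⟨t + t', p, hp, by simp [Xb_add, mul_assoc]⟩)
  · exact Or.inr (Or.inr (Or.inl (S.in2_Xb hF ⟨w, s, p, hp, rfl⟩ t)))
  · exact Or.inr (Or.inr (Or.inr ⟨t + t', v, w, p, hp, by simp [Xb_add, mul_assoc]⟩))

theorem cellA {s : F} (hs : s ≠ 0) : ∃ b, ∃ e ∈ S.T, S.wa * S.Xa s * S.wa⁻¹ = S.Xa b * e * S.wa * S.Xa b := by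
  refine ⟨-(((Units.mk0 s hs)⁻¹ : Fˣ) : F), S.A (ds (Units.mk0 s hs)⁻¹), S.A_ds_mem _, ?_⟩
  have := congrArg S.A (ts_conj_xs (Units.mk0 s hs))
  simp only [map_mul, map_inv, Units.val_mk0] at this
  simpa [wa, Xa] using this

theorem cellB {s : F} (hs : s ≠ 0) : ∃ b, ∃ e ∈ S.T, S.wb * S.Xb s * S.wb⁻¹ = S.Xb b * e * S.wb * S.Xb b := by
  refine ⟨-(((Units.mk0 s hs)⁻¹ : Fˣ) : F), S.B (ds (Units.mk0 s hs)⁻¹), S.B_ds_mem _, ?_⟩
  have := congrArg S.B (ts_conj_xs (Units.mk0 s hs))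
  simp only [map_mul, map_inv, Units.val_mk0] at this
  simpa [wb, Xb] using this

theorem inS_wa {x : P} (hx : S.InS x) : S.InS (S.wa * x) := by
  obtain ⟨hwb, hwc, hwd⟩ := S.wa_moves hF
  rcases hx with h | ⟨t, p, hp, rfl⟩ | ⟨w, s, p, hp, rfl⟩ | ⟨t, v, w, p, hp, rfl⟩
  · exact Or.inl (S.inP_A hF h ts)
  · refine Or.inr (Or.inr (Or.inl ⟨t, 0, p, hp, ?_⟩))
    rw [← mul_assoc, ← mul_assoc, hwb, Xa_zero, mul_one]
  · obtain ⟨t', ht'⟩ := hwd w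
    rcases eq_or_ne s 0 with rfl | hs
    · obtain ⟨z, hz, hze⟩ := (S.T_push S.wa_sq).2
      refine Or.inr (Or.inl ⟨t', z * p, S.inP_T hp hz, ?_⟩)
      calc S.wa * (S.Xd w * S.Xa 0 * S.wa * S.wb * p) = S.wa * S.Xd w * S.wa * S.wb * p := by
            simp [Xa_zero, mul_assoc]
        _ = S.Xb t' * (S.wa * S.wa * S.wb) * p := by rw [ht']; simp [mul_assoc]
        _ = _ := by rw [hze]; simp [mul_assoc]
    · obtain ⟨b, e, he, hcell⟩ := S.cellA hF hs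
      obtain ⟨⟨a, ha⟩, -, -, -⟩ := S.T_swap (inv_mem S.wa_sq)
      obtain ⟨k, hk⟩ : ∃ k, S.Xa b * (S.wa * S.wa) = S.wa * S.wa * S.Xa k := ⟨a * b, by
        rw [← mul_inv_cancel_left (S.wa * S.wa) (S.Xa b * _), ← mul_assoc _ (S.Xa b), ha]; simp [mul_assoc]⟩
      obtain ⟨-, -, -, h4, -, -⟩ := S.wb_moves hF
      obtain ⟨c, hc⟩ := h4 k
      obtain ⟨z, hz, hze⟩ := S.T_push (show e ∈ S.T from he) |>.1
      have h0 : S.InS ((e * (S.wa * S.wa * S.wa * (S.wa)⁻¹)) * (S.wa * S.wb * (S.Xc c * p))) := by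
        refine S.inS_T hF (Or.inr (Or.inr (Or.inl ⟨0, 0, S.Xc c * p, S.inP_Xc hF hp c, by
          simp [Xd_zero, Xa_zero, mul_assoc]⟩))) (mul_mem he ?_)
        rw [mul_inv_cancel_right]; exact S.wa_sq
      have := S.inS_Xb hF (S.inS_Xa hF h0 b) t'
      convert this using 1
      calc S.wa * (S.Xd w * S.Xa s * S.wa * S.wb * p) = S.wa * S.Xd w * S.Xa s * S.wa * S.wb * p := by simp [mul_assoc]
        _ = S.Xb t' * (S.wa * S.Xa s * S.wa⁻¹) * (S.wa * S.wa) * S.wb * p := by rw [ht']; simp [mul_assoc]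
        _ = S.Xb t' * S.Xa b * e * S.wa * (S.Xa b * (S.wa * S.wa)) * S.wb * p := by rw [hcell]; simp [mul_assoc]
        _ = S.Xb t' * S.Xa b * e * S.wa * (S.wa * S.wa) * (S.Xa k * S.wb) * p := by rw [hk]; simp [mul_assoc]
        _ = _ := by rw [hc]; simp [mul_assoc]
  · obtain ⟨t', ht'⟩ := hwd w
    refine Or.inr (Or.inr (Or.inr ⟨t', -v, t, S.wa * p, S.inP_A hF hp ts, ?_⟩))
    have hb := S.braid
    calc S.wa * (S.Xb t * S.Xc v * S.Xd w * (S.wb * S.wa * S.wb) * p)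
        = S.wa * S.Xb t * S.Xc v * S.Xd w * (S.wb * S.wa * S.wb) * p := by simp [mul_assoc]
      _ = S.Xd t * S.Xc (-v) * (S.wa * S.Xd w) * (S.wb * S.wa * S.wb) * p := by
          rw [hwb, mul_assoc (S.Xd t) S.wa, hwc]; simp [mul_assoc]
      _ = (S.Xd t * S.Xc (-v) * S.Xb t') * (S.wa * S.wb * S.wa * S.wb) * p := by rw [ht']; simp [mul_assoc]
      _ = _ := by
          rw [show S.wa * S.wb * S.wa * S.wb = S.wb * S.wa * S.wb * S.wa from hb,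
            S.reorder hF]
          simp [mul_assoc]

theorem in2_wb {x : P} (hx : S.In2 x) : S.In3 (S.wb * x) := by
  obtain ⟨w, s, p, hp, rfl⟩ := hx
  obtain ⟨h1, h2, -, -, -, -⟩ := S.wb_moves hF
  refine ⟨0, -s, w, p, hp, ?_⟩
  calc S.wb * (S.Xd w * S.Xa s * S.wa * S.wb * p) = S.wb * S.Xd w * S.Xa s * S.wa * S.wb * p := by simp [mul_assoc]
    _ = (S.Xd w * S.Xc (-s)) * S.wb * S.wa * S.wb * p := by
        rw [h2, mul_assoc (S.Xd w), h1]; simp [mul_assoc]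
    _ = _ := by rw [← (hF.cd _ _).eq, Xb_zero]; simp [mul_assoc]

theorem inS_wb {x : P} (hx : S.InS x) : S.InS (S.wb * x) := by
  obtain ⟨h1, h2, h3, -, -, h6⟩ := S.wb_moves hF
  rcases hx with h | ⟨t, p, hp, rfl⟩ | h | ⟨t, v, w, p, hp, rfl⟩
  · exact Or.inr (Or.inl ⟨0, x, h, by simp [Xb_zero]⟩)
  · rcases eq_or_ne t 0 with rfl | ht
    · refine Or.inl ?_
      have := S.inP_T hp S.wb_sq
      simpa [Xb_zero, mul_assoc] using this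
    · obtain ⟨b, e, he, hcell⟩ := S.cellB hF ht
      have h0 : S.In1 (S.wb * (S.Xb b * (S.wb * S.wb * p))) :=
        ⟨0, _, S.inP_Xb (S.inP_T hp S.wb_sq) b, by simp [Xb_zero]⟩
      have := S.inS_Xb hF (S.inS_T hF (Or.inr (Or.inl h0)) he) b
      convert this using 1
      calc S.wb * (S.Xb t * S.wb * p) = (S.wb * S.Xb t * S.wb⁻¹) * (S.wb * S.wb * p) := by simp [mul_assoc]
        _ = _ := by rw [hcell]; simp [mul_assoc]
  · exact Or.inr (Or.inr (Or.inr (S.in2_wb hF h)))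
  · obtain ⟨a, ha⟩ := h3 v
    obtain ⟨z1, hz1, he1⟩ := (S.T_push S.wb_sq).1
    obtain ⟨z2, hz2, he2⟩ := (S.T_push hz1).2
    have h0 : S.In2 (S.Xd w * S.Xa a * S.wa * S.wb * (z2 * p)) := ⟨w, a, _, S.inP_T hp hz2, rfl⟩
    have e : S.wb * (S.Xc v * S.Xd w * (S.wb * S.wa * S.wb) * p) = S.Xd w * S.Xa a * S.wa * S.wb * (z2 * p) := by
      calc S.wb * (S.Xc v * S.Xd w * (S.wb * S.wa * S.wb) * p)
          = S.wb * S.Xc v * S.Xd w * (S.wb * S.wa * S.wb) * p := by simp [mul_assoc]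
        _ = S.Xa a * (S.wb * S.Xd w) * (S.wb * S.wa * S.wb) * p := by rw [ha]; simp [mul_assoc]
        _ = S.Xa a * S.Xd w * (S.wb * S.wb * S.wa) * S.wb * p := by rw [h2]; simp [mul_assoc]
        _ = S.Xd w * S.Xa a * S.wa * (z1 * S.wb) * p := by rw [he1, (hF.ad _ _).eq]; simp [mul_assoc]
        _ = _ := by rw [he2]; simp [mul_assoc]
    rcases eq_or_ne t 0 with rfl | ht
    · refine Or.inr (Or.inr (Or.inl ?_))
      rw [Xb_zero, one_mul, e]; exact h0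
    · obtain ⟨b, f, hf, hcell⟩ := S.cellB hF ht
      have := S.inS_Xb hF (S.inS_T hF (Or.inr (Or.inr (Or.inr (S.in2_wb hF (S.in2_Xb hF h0 b))))) hf) b
      convert this using 1
      calc S.wb * (S.Xb t * S.Xc v * S.Xd w * (S.wb * S.wa * S.wb) * p)
          = (S.wb * S.Xb t * S.wb⁻¹) * (S.wb * (S.Xc v * S.Xd w * (S.wb * S.wa * S.wb) * p)) := by simp [mul_assoc]
        _ = _ := by rw [hcell, e]; simp [mul_assoc]

theorem card_le : Finite P ∧ Nat.card P ≤ Fintype.card F ^ 3 * (Nat.card SL(2, F) * (Fintype.card F - 1)) *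
    (1 + Fintype.card F + Fintype.card F ^ 2 + Fintype.card F ^ 3) := by
  classical
  haveI : Fintype SL(2, F) := Fintype.ofFinite _
  let PT := F × F × F × (SL(2, F) × Fˣ)
  let fP : PT → P := fun z => S.Xb z.1 * S.Xc z.2.1 * S.Xd z.2.2.1 * (S.A z.2.2.2.1 * S.B (ds z.2.2.2.2))
  have hP : ∀ x, S.InP x → ∃ z, fP z = x := by
    rintro x ⟨t, v, w, y, r, rfl⟩
    exact ⟨(t, v, w, y, r), rfl⟩
  let fS : PT ⊕ (F × PT) ⊕ (F × F × PT) ⊕ (F × F × F × PT) → P := fun z => match z with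
    | .inl z => fP z
    | .inr (.inl (t, z)) => S.Xb t * S.wb * fP z
    | .inr (.inr (.inl (w, s, z))) => S.Xd w * S.Xa s * S.wa * S.wb * fP z
    | .inr (.inr (.inr (t, v, w, z))) => S.Xb t * S.Xc v * S.Xd w * (S.wb * S.wa * S.wb) * fP z
  have hS : ∀ x, S.InS x → x ∈ Set.range fS := by
    rintro x (h | ⟨t, q, hq, rfl⟩ | ⟨w, s, q, hq, rfl⟩ | ⟨t, v, w, q, hq, rfl⟩)
    · obtain ⟨z, rfl⟩ := hP x h; exact ⟨.inl z, rfl⟩
    · obtain ⟨z, rfl⟩ := hP q hq; exact ⟨.inr (.inl (t, z)), rfl⟩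
    · obtain ⟨z, rfl⟩ := hP q hq; exact ⟨.inr (.inr (.inl (w, s, z))), rfl⟩
    · obtain ⟨z, rfl⟩ := hP q hq; exact ⟨.inr (.inr (.inr (t, v, w, z))), rfl⟩
  have hfin : {x | S.InS x}.Finite := (Set.finite_range fS).subset hS
  let W : Subgroup P :=
    { carrier := {g | (∀ x, S.InS x → S.InS (g * x)) ∧ ∀ x, S.InS x → S.InS (g⁻¹ * x)}
      one_mem' := ⟨fun x h => by simpa using h, fun x h => by simpa using h⟩
      mul_mem' := fun {a b} ha hb => ⟨fun x h => by rw [mul_assoc]; exact ha.1 _ (hb.1 x h), fun x h => by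
        rw [_root_.mul_inv_rev, mul_assoc]; exact hb.2 _ (ha.2 x h)⟩
      inv_mem' := fun {a} ha => ⟨ha.2, fun x h => by rw [inv_inv]; exact ha.1 x h⟩ }
  have hW : ∀ g, (∀ x, S.InS x → S.InS (g * x)) → g ∈ W := by
    intro g hg
    refine ⟨hg, fun x hx => ?_⟩
    have hb := (hfin.injOn_iff_bijOn_of_mapsTo (f := fun z => g * z) (fun z hz => hg z hz)).1
      (mul_right_injective g).injOn
    obtain ⟨z, hz, hzy⟩ := hb.surjOn hx
    rw [← hzy, inv_mul_cancel_left]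
    exact hz
  have hA : W.comap S.A = ⊤ :=
    closure_gens (fun c => hW _ fun x hx => S.inS_Xa hF hx c) (hW _ fun x hx => S.inS_wa hF hx)
  have hB : W.comap S.B = ⊤ :=
    closure_gens (fun c => hW _ fun x hx => S.inS_Xb hF hx c) (hW _ fun x hx => S.inS_wb hF hx)
  have htop : W = ⊤ := by
    rw [eq_top_iff, ← S.gen, Subgroup.closure_le]
    rintro _ (⟨y, rfl⟩ | ⟨y, rfl⟩)
    · exact (show y ∈ W.comap S.A by rw [hA]; trivial)
    · exact (show y ∈ W.comap S.B by rw [hB]; trivial)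
  have hall : ∀ x, S.InS x := fun x => by
    have hx : x ∈ W := by rw [htop]; trivial
    simpa using hx.1 1 (Or.inl S.inP_one)
  have hsurj : Function.Surjective fS := fun x => hS x (hall x)
  refine ⟨Finite.of_surjective fS hsurj, (Nat.card_le_card_of_surjective fS hsurj).trans (le_of_eq ?_)⟩
  simp only [PT, Nat.card_sum, Nat.card_prod, Nat.card_eq_fintype_card, Fintype.card_sum, Fintype.card_prod,
    Fintype.card_units]
  ring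

end Frame

end Cfsg.Lib.Linear.ShortPres.Four
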