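import Cfsg.Agent.Lib.Linear.ShortPres.SLTwo

/-!
# Short presentations of `Sp₄`: two rank one subgroups and the torus
-/

set_option autoImplicit false

namespace Cfsg.Lib.Linear.ShortPres.Four

open Matrix
open scoped MatrixGroups

variable {F : Type*} [Field F]

/-- The outer torus action on the short rank one group, on elements. -/
def adjEl (ζ : Fˣ) (x : SL(2, F)) : SL(2, F) :=
  ⟨!![x.1 0 0, ((ζ⁻¹ : Fˣ) : F) * x.1 0 1; (ζ : F) * x.1 1 0, x.1 1 1], by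
    have h : x.1.det = 1 := x.2
    rw [det_fin_two] at h
    rw [det_fin_two]; simp
    field_simp
    linear_combination h⟩

theorem adjEl_coe (ζ : Fˣ) (x : SL(2, F)) : (adjEl ζ x : Matrix (Fin 2) (Fin 2) F) =
    !![x.1 0 0, ((ζ⁻¹ : Fˣ) : F) * x.1 0 1; (ζ : F) * x.1 1 0, x.1 1 1] := rfl

/-- The outer torus action on the short rank one group. -/
def adj (ζ : Fˣ) : SL(2, F) →* SL(2, F) :=
  MonoidHom.mk' (adjEl ζ) fun x y => by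
    ext i j; fin_cases i <;> fin_cases j <;>
      simp [adjEl_coe, Matrix.SpecialLinearGroup.coe_mul, Matrix.mul_apply, Fin.sum_univ_two] <;> field_simp

theorem adj_coe (ζ : Fˣ) (x : SL(2, F)) : (adj ζ x : Matrix (Fin 2) (Fin 2) F) =
    !![x.1 0 0, ((ζ⁻¹ : Fˣ) : F) * x.1 0 1; (ζ : F) * x.1 1 0, x.1 1 1] := rfl

theorem adj_xs (ζ : Fˣ) (s : F) : adj ζ (xs s) = xs (((ζ⁻¹ : Fˣ) : F) * s) := by
  ext i j; fin_cases i <;> fin_cases j <;> simp [adj_coe, xs_coe]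

theorem adj_ds (ζ r : Fˣ) : adj ζ (ds r) = ds r := by
  ext i j; fin_cases i <;> fin_cases j <;> simp [adj_coe, ds_coe]

theorem adj_ts (ζ : Fˣ) : adj ζ ts = ds ζ⁻¹ * ts := by
  ext i j; fin_cases i <;> fin_cases j <;>
    simp [adj_coe, ds_coe, ts_coe, Matrix.SpecialLinearGroup.coe_mul, Matrix.mul_apply, Fin.sum_univ_two]

theorem ds_ts (r : Fˣ) : ds r * ts = ts * (ds r)⁻¹ := by
  rw [← ts_conj_ds]
  calc ds r * ts = ((ts * ds r * ts⁻¹)⁻¹) * ts := by rw [ts_conj_ds, inv_inv]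
    _ = ts * (ds r)⁻¹ := by simp [mul_assoc]
    _ = _ := by rw [← ts_conj_ds]

/-- Words in the two rank one groups satisfying the linking relations. -/
structure Frame (F : Type*) [Field F] [Fintype F] (P : Type*) [Group P] where
  A : SL(2, F) →* P
  B : SL(2, F) →* P
  ζ : Fˣ
  hgen : ∀ x : Fˣ, ∃ i : ℕ, x = ζ ^ i
  gen : Subgroup.closure (Set.range A ∪ Set.range B) = ⊤
  ha_B : ∀ x, A (ds ζ) * B x * (A (ds ζ))⁻¹ = B (ds ζ⁻¹ * x * (ds ζ⁻¹)⁻¹)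
  hb_A : ∀ x, B (ds ζ) * A x * (B (ds ζ))⁻¹ = A (adj ζ x)
  braid : A ts * B ts * A ts * B ts = B ts * A ts * B ts * A ts
  refl_c : A ts * (B ts * A (xs (-1)) * (B ts)⁻¹) * (A ts)⁻¹ = B ts * A (xs (-(-1))) * (B ts)⁻¹
  refl_d : B ts * (A ts * B (xs 1) * (A ts)⁻¹) * (B ts)⁻¹ = A ts * B (xs 1) * (A ts)⁻¹

variable [Fintype F] {P : Type*} [Group P] (S : Frame F P)

namespace Frame

/-- The root group of the short simple root. -/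
def Xa (s : F) : P := S.A (xs s)
/-- The root group of the long simple root. -/
def Xb (s : F) : P := S.B (xs s)
/-- The root group of the short positive root. -/
def Xc (s : F) : P := S.B ts * S.A (xs (-s)) * (S.B ts)⁻¹
/-- The root group of the long positive root. -/
def Xd (s : F) : P := S.A ts * S.B (xs s) * (S.A ts)⁻¹
/-- The first reflection. -/
def wa : P := S.A ts
/-- The second reflection. -/
def wb : P := S.B ts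
/-- The first torus generator. -/
def ha : P := S.A (ds S.ζ)
/-- The second torus generator. -/
def hb : P := S.B (ds S.ζ)
/-- The torus. -/
def T : Subgroup P := Subgroup.closure ({S.ha, S.hb} : Set P)

theorem Xa_add (s t : F) : S.Xa (s + t) = S.Xa s * S.Xa t := by simp [Xa, xs_add]
theorem Xb_add (s t : F) : S.Xb (s + t) = S.Xb s * S.Xb t := by simp [Xb, xs_add]
theorem Xc_add (s t : F) : S.Xc (s + t) = S.Xc s * S.Xc t := by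
  simp [Xc, neg_add, xs_add, mul_assoc, add_comm]
theorem Xd_add (s t : F) : S.Xd (s + t) = S.Xd s * S.Xd t := by simp [Xd, xs_add, mul_assoc]
theorem Xa_zero : S.Xa 0 = 1 := by simp [Xa, xs_zero]
theorem Xb_zero : S.Xb 0 = 1 := by simp [Xb, xs_zero]
theorem Xc_zero : S.Xc 0 = 1 := by simp [Xc, xs_zero]
theorem Xd_zero : S.Xd 0 = 1 := by simp [Xd, xs_zero]

theorem comm : S.ha * S.hb = S.hb * S.ha := by
  have := S.ha_B (ds S.ζ)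
  rw [← ds_inv, inv_inv, ← ds_mul, ← ds_mul, mul_comm S.ζ⁻¹, mul_inv_cancel, one_mul] at this
  exact mul_inv_eq_iff_eq_mul.1 this

theorem ha_Xa (s : F) : S.ha * S.Xa s * S.ha⁻¹ = S.Xa ((S.ζ : F) ^ 2 * s) := by
  rw [ha, Xa, Xa, ← map_inv, ← map_mul, ← map_mul, ds_conj]

theorem hb_Xb (s : F) : S.hb * S.Xb s * S.hb⁻¹ = S.Xb ((S.ζ : F) ^ 2 * s) := by
  rw [hb, Xb, Xb, ← map_inv, ← map_mul, ← map_mul, ds_conj]

theorem ha_Xb (s : F) : S.ha * S.Xb s * S.ha⁻¹ = S.Xb (((S.ζ : F) ^ 2)⁻¹ * s) := by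
  rw [ha, Xb, Xb, S.ha_B, ds_conj, Units.val_inv_eq_inv_val, inv_pow]

theorem hb_Xa (s : F) : S.hb * S.Xa s * S.hb⁻¹ = S.Xa ((S.ζ : F)⁻¹ * s) := by
  rw [hb, Xa, Xa, S.hb_A, adj_xs, Units.val_inv_eq_inv_val]

theorem hb_wa : S.hb * S.wa = S.ha⁻¹ * S.wa * S.hb := by
  have := S.hb_A ts
  rw [adj_ts, map_mul, ds_inv, map_inv] at this
  exact mul_inv_eq_iff_eq_mul.1 this

theorem ha_wb : S.ha * S.wb = S.hb⁻¹ * S.hb⁻¹ * S.wb * S.ha := by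
  have := S.ha_B ts
  rw [mul_assoc (ds _) ts, ← ds_inv, inv_inv, show ts * ds S.ζ = ds S.ζ⁻¹ * ts by rw [ds_ts, ← ds_inv, inv_inv],
    ← mul_assoc, map_mul, map_mul, ds_inv, map_inv] at this
  exact mul_inv_eq_iff_eq_mul.1 this

theorem ha_wa : S.ha * S.wa = S.wa * S.ha⁻¹ := by
  rw [ha, wa, ← map_inv, ← map_mul, ← map_mul, ds_ts]

theorem hb_wb : S.hb * S.wb = S.wb * S.hb⁻¹ := by
  rw [hb, wb, ← map_inv, ← map_mul, ← map_mul, ds_ts]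

theorem hb_Xc (s : F) : S.hb * S.Xc s * S.hb⁻¹ = S.Xc ((S.ζ : F) * s) := by
  have h := S.hb_Xa ((S.ζ : F) * -s)
  rw [inv_mul_cancel_left₀ S.ζ.ne_zero] at h
  calc S.hb * S.Xc s * S.hb⁻¹ = S.hb * S.wb * S.Xa (-s) * (S.hb * S.wb)⁻¹ := by
        simp [Xc, Xa, wb, mul_assoc]
    _ = S.wb * S.hb⁻¹ * (S.hb * S.Xa ((S.ζ : F) * -s) * S.hb⁻¹) * (S.wb * S.hb⁻¹)⁻¹ := by rw [hb_wb, h]
    _ = _ := by simp [Xc, Xa, wb, mul_assoc, neg_mul, mul_neg]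

theorem ha_Xc (s : F) : S.ha * S.Xc s * S.ha⁻¹ = S.Xc s := by
  calc S.ha * S.Xc s * S.ha⁻¹ = (S.ha * S.wb) * S.Xa (-s) * (S.ha * S.wb)⁻¹ := by simp [Xc, Xa, wb, mul_assoc]
    _ = S.hb⁻¹ * S.hb⁻¹ * (S.wb * (S.ha * S.Xa (-s) * S.ha⁻¹) * S.wb⁻¹) * (S.hb * S.hb) := by
        rw [ha_wb]; simp [mul_assoc]
    _ = S.hb⁻¹ * S.hb⁻¹ * S.Xc ((S.ζ : F) * ((S.ζ : F) * s)) * (S.hb * S.hb) := by
        rw [ha_Xa]; simp [Xc, Xa, wb, mul_neg, pow_two, mul_assoc]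
    _ = _ := by rw [← hb_Xc, ← hb_Xc]; simp [mul_assoc]

theorem ha_Xd (s : F) : S.ha * S.Xd s * S.ha⁻¹ = S.Xd ((S.ζ : F) ^ 2 * s) := by
  have h := S.ha_Xb ((S.ζ : F) ^ 2 * s)
  rw [inv_mul_cancel_left₀ (pow_ne_zero _ S.ζ.ne_zero)] at h
  calc S.ha * S.Xd s * S.ha⁻¹ = S.ha * S.wa * S.Xb s * (S.ha * S.wa)⁻¹ := by simp [Xd, Xb, wa, mul_assoc]
    _ = S.wa * S.ha⁻¹ * (S.ha * S.Xb ((S.ζ : F) ^ 2 * s) * S.ha⁻¹) * (S.wa * S.ha⁻¹)⁻¹ := by rw [ha_wa, h]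
    _ = _ := by simp [Xd, Xb, wa, mul_assoc]

theorem hb_Xd (s : F) : S.hb * S.Xd s * S.hb⁻¹ = S.Xd s := by
  calc S.hb * S.Xd s * S.hb⁻¹ = (S.hb * S.wa) * S.Xb s * (S.hb * S.wa)⁻¹ := by simp [Xd, Xb, wa, mul_assoc]
    _ = S.ha⁻¹ * (S.wa * (S.hb * S.Xb s * S.hb⁻¹) * S.wa⁻¹) * S.ha := by rw [hb_wa]; simp [mul_assoc]
    _ = S.ha⁻¹ * S.Xd ((S.ζ : F) ^ 2 * s) * S.ha := by rw [hb_Xb]; simp [Xd, Xb, wa, mul_assoc]
    _ = _ := by rw [← ha_Xd]; simp [mul_assoc]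

/-- The action of `ha * hb`. -/
theorem hab (s : F) :
    S.ha * S.hb * S.Xa s * (S.ha * S.hb)⁻¹ = S.Xa ((S.ζ : F) * s) ∧
    S.ha * S.hb * S.Xb s * (S.ha * S.hb)⁻¹ = S.Xb s ∧
    S.ha * S.hb * S.Xc s * (S.ha * S.hb)⁻¹ = S.Xc ((S.ζ : F) * s) ∧
    S.ha * S.hb * S.Xd s * (S.ha * S.hb)⁻¹ = S.Xd ((S.ζ : F) ^ 2 * s) := by
  have e : ∀ x : P, S.ha * S.hb * x * (S.ha * S.hb)⁻¹ = S.ha * (S.hb * x * S.hb⁻¹) * S.ha⁻¹ := fun x => by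
    simp [mul_assoc]
  have hz := S.ζ.ne_zero
  refine ⟨?_, ?_, ?_, ?_⟩ <;> rw [e]
  · rw [hb_Xa, ha_Xa]; congr 1; field_simp
  · rw [hb_Xb, ha_Xb, inv_mul_cancel_left₀ (pow_ne_zero _ hz)]
  · rw [hb_Xc, ha_Xc]
  · rw [hb_Xd, ha_Xd]

/-- The action of `ha * hb * hb`. -/
theorem habb (s : F) :
    S.ha * S.hb * S.hb * S.Xa s * (S.ha * S.hb * S.hb)⁻¹ = S.Xa s ∧
    S.ha * S.hb * S.hb * S.Xb s * (S.ha * S.hb * S.hb)⁻¹ = S.Xb ((S.ζ : F) ^ 2 * s) ∧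
    S.ha * S.hb * S.hb * S.Xc s * (S.ha * S.hb * S.hb)⁻¹ = S.Xc ((S.ζ : F) ^ 2 * s) ∧
    S.ha * S.hb * S.hb * S.Xd s * (S.ha * S.hb * S.hb)⁻¹ = S.Xd ((S.ζ : F) ^ 2 * s) := by
  have e : ∀ x : P, S.ha * S.hb * S.hb * x * (S.ha * S.hb * S.hb)⁻¹ =
      S.ha * S.hb * (S.hb * x * S.hb⁻¹) * (S.ha * S.hb)⁻¹ := fun x => by simp [mul_assoc]
  refine ⟨?_, ?_, ?_, ?_⟩ <;> rw [e]
  · rw [hb_Xa, (S.hab _).1, mul_inv_cancel_left₀ S.ζ.ne_zero]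
  · rw [hb_Xb, (S.hab _).2.1]
  · rw [hb_Xc, (S.hab _).2.2.1, pow_two, mul_assoc]
  · rw [hb_Xd, (S.hab _).2.2.2]

theorem ha_mem : S.ha ∈ S.T := Subgroup.subset_closure (Or.inl rfl)
theorem hb_mem : S.hb ∈ S.T := Subgroup.subset_closure (Or.inr rfl)

theorem A_ds_mem (r : Fˣ) : S.A (ds r) ∈ S.T := by
  obtain ⟨i, rfl⟩ := S.hgen r
  rw [ds_pow, map_pow]; exact pow_mem S.ha_mem i

theorem B_ds_mem (r : Fˣ) : S.B (ds r) ∈ S.T := by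
  obtain ⟨i, rfl⟩ := S.hgen r
  rw [ds_pow, map_pow]; exact pow_mem S.hb_mem i

theorem T_repr {x : P} (hx : x ∈ S.T) : ∃ r s : Fˣ, x = S.A (ds r) * S.B (ds s) := by
  induction hx using Subgroup.closure_induction with
  | mem y hy =>
    rcases hy with rfl | rfl
    · exact ⟨S.ζ, 1, by simp [ha, ds_one]⟩
    · exact ⟨1, S.ζ, by simp [hb, ds_one]⟩
  | one => exact ⟨1, 1, by simp [ds_one]⟩
  | mul y z _ _ hy hz =>
    obtain ⟨r, s, rfl⟩ := hy; obtain ⟨r', s', rfl⟩ := hz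
    obtain ⟨i, rfl⟩ := S.hgen r'
    obtain ⟨j, rfl⟩ := S.hgen s
    refine ⟨r * S.ζ ^ i, S.ζ ^ j * s', ?_⟩
    have hc : Commute (S.B (ds (S.ζ ^ j))) (S.A (ds (S.ζ ^ i))) := by
      rw [ds_pow, ds_pow, map_pow, map_pow]
      exact (Commute.pow_pow (show Commute S.hb S.ha from S.comm.symm) j i)
    simp only [ds_mul, map_mul]
    calc S.A (ds r) * S.B (ds (S.ζ ^ j)) * (S.A (ds (S.ζ ^ i)) * S.B (ds s'))
        = S.A (ds r) * (S.B (ds (S.ζ ^ j)) * S.A (ds (S.ζ ^ i))) * S.B (ds s') := by simp [mul_assoc]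
      _ = _ := by rw [hc.eq]; simp [mul_assoc]
  | inv y _ hy =>
    obtain ⟨r, s, rfl⟩ := hy
    obtain ⟨i, rfl⟩ := S.hgen r
    obtain ⟨j, rfl⟩ := S.hgen s
    refine ⟨(S.ζ ^ i)⁻¹, (S.ζ ^ j)⁻¹, ?_⟩
    rw [ds_inv, ds_inv, ds_pow, ds_pow, map_inv, map_inv, map_pow, map_pow, _root_.mul_inv_rev]
    exact (Commute.inv_inv (Commute.pow_pow (show Commute S.hb S.ha from S.comm.symm) j i)).eq

/-- Membership in the torus survives conjugation by the reflections. -/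
theorem w_norm {x : P} (hx : x ∈ S.T) :
    S.wa * x * S.wa⁻¹ ∈ S.T ∧ S.wb * x * S.wb⁻¹ ∈ S.T ∧ S.wa⁻¹ * x * S.wa ∈ S.T ∧ S.wb⁻¹ * x * S.wb ∈ S.T := by
  have haha : S.wa * S.ha * S.wa⁻¹ = S.ha⁻¹ := by
    rw [ha, wa, ← map_inv, ← map_mul, ← map_mul, ts_conj_ds, map_inv]
  have hbhb : S.wb * S.hb * S.wb⁻¹ = S.hb⁻¹ := by
    rw [hb, wb, ← map_inv, ← map_mul, ← map_mul, ts_conj_ds, map_inv]
  have hahb : S.wa * S.hb * S.wa⁻¹ = S.ha * S.hb := by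
    rw [mul_inv_eq_iff_eq_mul, mul_assoc, hb_wa]; simp [mul_assoc]
  have hbha : S.wb * S.ha * S.wb⁻¹ = S.hb * S.hb * S.ha := by
    rw [mul_inv_eq_iff_eq_mul, mul_assoc, ha_wb]; simp [mul_assoc]
  have h1 : S.T ≤ S.T.comap (MulAut.conj S.wa).toMonoidHom := by
    rw [T, Subgroup.closure_le]
    rintro y (rfl | rfl)
    · show S.wa * S.ha * S.wa⁻¹ ∈ S.T
      rw [haha]; exact inv_mem S.ha_mem
    · show S.wa * S.hb * S.wa⁻¹ ∈ S.T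
      rw [hahb]; exact mul_mem S.ha_mem S.hb_mem
  have h2 : S.T ≤ S.T.comap (MulAut.conj S.wb).toMonoidHom := by
    rw [T, Subgroup.closure_le]
    rintro y (rfl | rfl)
    · show S.wb * S.ha * S.wb⁻¹ ∈ S.T
      rw [hbha]; exact mul_mem (mul_mem S.hb_mem S.hb_mem) S.ha_mem
    · show S.wb * S.hb * S.wb⁻¹ ∈ S.T
      rw [hbhb]; exact inv_mem S.hb_mem
  have hsa : S.wa * S.wa ∈ S.T := by rw [wa, ← map_mul, ts_sq]; exact S.A_ds_mem _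
  have hsb : S.wb * S.wb ∈ S.T := by rw [wb, ← map_mul, ts_sq]; exact S.B_ds_mem _
  refine ⟨h1 hx, h2 hx, ?_, ?_⟩
  · have := mul_mem (mul_mem (inv_mem hsa) (h1 hx : S.wa * x * S.wa⁻¹ ∈ S.T)) hsa
    simpa [mul_assoc] using this
  · have := mul_mem (mul_mem (inv_mem hsb) (h2 hx : S.wb * x * S.wb⁻¹ ∈ S.T)) hsb
    simpa [mul_assoc] using this

theorem wa_sq : S.wa * S.wa ∈ S.T := by rw [wa, ← map_mul, ts_sq]; exact S.A_ds_mem _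
theorem wb_sq : S.wb * S.wb ∈ S.T := by rw [wb, ← map_mul, ts_sq]; exact S.B_ds_mem _

theorem T_scale {x : P} (hx : x ∈ S.T) :
    (∃ r : Fˣ, ∀ s, x * S.Xa s * x⁻¹ = S.Xa ((r : F) * s)) ∧ (∃ r : Fˣ, ∀ s, x * S.Xb s * x⁻¹ = S.Xb ((r : F) * s)) ∧
    (∃ r : Fˣ, ∀ s, x * S.Xc s * x⁻¹ = S.Xc ((r : F) * s)) ∧ (∃ r : Fˣ, ∀ s, x * S.Xd s * x⁻¹ = S.Xd ((r : F) * s)) := by
  have key : ∀ (X : F → P) (u v : Fˣ), (∀ s, S.ha * X s * S.ha⁻¹ = X ((u : F) * s)) →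
      (∀ s, S.hb * X s * S.hb⁻¹ = X ((v : F) * s)) → ∃ r : Fˣ, ∀ s, x * X s * x⁻¹ = X ((r : F) * s) := by
    intro X u v hu hv
    induction hx using Subgroup.closure_induction with
    | mem y hy =>
      rcases hy with rfl | rfl
      · exact ⟨u, hu⟩
      · exact ⟨v, hv⟩
    | one => exact ⟨1, fun s => by simp⟩
    | mul y z _ _ hy hz =>
      obtain ⟨r, hr⟩ := hy; obtain ⟨r', hr'⟩ := hz
      refine ⟨r * r', fun s => ?_⟩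
      rw [show y * z * X s * (y * z)⁻¹ = y * (z * X s * z⁻¹) * y⁻¹ by simp [mul_assoc], hr', hr, Units.val_mul,
        mul_assoc]
    | inv y _ hy =>
      obtain ⟨r, hr⟩ := hy
      refine ⟨r⁻¹, fun s => ?_⟩
      have := hr (((r⁻¹ : Fˣ) : F) * s)
      rw [← mul_assoc, Units.mul_inv, one_mul] at this
      rw [← this]; simp [mul_assoc]
  refine ⟨key _ (S.ζ ^ 2) S.ζ⁻¹ ?_ ?_, key _ ((S.ζ ^ 2)⁻¹) (S.ζ ^ 2) ?_ ?_, key _ 1 S.ζ ?_ ?_,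
    key _ (S.ζ ^ 2) 1 ?_ ?_⟩ <;> intro s <;>
    (try simp only [Units.val_pow_eq_pow_val, Units.val_inv_eq_inv_val, Units.val_one, one_mul])
  · exact S.ha_Xa s
  · exact S.hb_Xa s
  · exact S.ha_Xb s
  · exact S.hb_Xb s
  · exact S.ha_Xc s
  · exact S.hb_Xc s
  · exact S.ha_Xd s
  · exact S.hb_Xd s

end Frame

end Cfsg.Lib.Linear.ShortPres.Four
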