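import Cfsg.Agent.Lib.Linear.ShortPres.SpFour.Frame
import Cfsg.Agent.Lib.Chev.B2Sp

/-!
# Short presentations of `Sp₄`: the matrices
-/

set_option autoImplicit false

namespace Cfsg.Lib.Linear.ShortPres.Four

open Matrix Cfsg.Lib.Chev.B2Sp
open scoped MatrixGroups

variable {F : Type*} [Field F]

theorem det_eq (y : SL(2, F)) : y.1 0 0 * y.1 1 1 - y.1 0 1 * y.1 1 0 = 1 := by
  have h : y.1.det = 1 := y.2
  rwa [det_fin_two] at h

theorem sl_mul_apply (x y : SL(2, F)) (i j : Fin 2) : (x * y).1 i j = x.1 i 0 * y.1 0 j + x.1 i 1 * y.1 1 j := by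
  show (x.1 * y.1) i j = _
  rw [Matrix.mul_apply, Fin.sum_univ_two]

/-- The short root `SL₂`, on elements. -/
def iaEl (y : SL(2, F)) : Matrix.symplecticGroup (Fin 2) F :=
  ⟨sp4 (y.1 0 0) (y.1 0 1) 0 0 (y.1 1 0) (y.1 1 1) 0 0 0 0 (y.1 1 1) (-y.1 1 0) 0 0 (-y.1 0 1) (y.1 0 0), by
    rw [SymplecticGroup.mem_iff, J_eq, sp4_transpose, sp4_mul, sp4_mul]
    congr 1 <;> first | ring1 | linear_combination det_eq y | linear_combination -(det_eq y)⟩

/-- The long root `SL₂`, on elements. -/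
def ibEl (y : SL(2, F)) : Matrix.symplecticGroup (Fin 2) F :=
  ⟨sp4 1 0 0 0 0 (y.1 0 0) 0 (y.1 0 1) 0 0 1 0 0 (y.1 1 0) 0 (y.1 1 1), by
    rw [SymplecticGroup.mem_iff, J_eq, sp4_transpose, sp4_mul, sp4_mul]
    congr 1 <;> first | ring1 | linear_combination det_eq y | linear_combination -(det_eq y)⟩

/-- The short root `SL₂`. -/
def ia : SL(2, F) →* Matrix.symplecticGroup (Fin 2) F :=
  MonoidHom.mk' iaEl fun x y => Subtype.ext (by
    rw [Submonoid.coe_mul]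
    simp only [iaEl, sp4_mul, sl_mul_apply]
    congr 1 <;> ring)

/-- The long root `SL₂`. -/
def ib : SL(2, F) →* Matrix.symplecticGroup (Fin 2) F :=
  MonoidHom.mk' ibEl fun x y => Subtype.ext (by
    rw [Submonoid.coe_mul]
    simp only [ibEl, sp4_mul, sl_mul_apply]
    congr 1 <;> ring)

theorem ia_coe (y : SL(2, F)) : (ia y : Matrix (Fin 2 ⊕ Fin 2) (Fin 2 ⊕ Fin 2) F) =
    sp4 (y.1 0 0) (y.1 0 1) 0 0 (y.1 1 0) (y.1 1 1) 0 0 0 0 (y.1 1 1) (-y.1 1 0) 0 0 (-y.1 0 1) (y.1 0 0) := rfl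

theorem ib_coe (y : SL(2, F)) : (ib y : Matrix (Fin 2 ⊕ Fin 2) (Fin 2 ⊕ Fin 2) F) =
    sp4 1 0 0 0 0 (y.1 0 0) 0 (y.1 0 1) 0 0 1 0 0 (y.1 1 0) 0 (y.1 1 1) := rfl

/-- Root elements in the symplectic group. -/
def xR (r : ℕ) (hr : r < 8) (t : F) : Matrix.symplecticGroup (Fin 2) F := ⟨spX r t, spX_mem hr t⟩

theorem ia_xs (s : F) : ia (xs s) = xR 5 (by norm_num) s := Subtype.ext (by simp [ia_coe, xs_coe, xR, spX])

theorem ib_xs (s : F) : ib (xs s) = xR 4 (by norm_num) (-s) := Subtype.ext (by simp [ib_coe, xs_coe, xR, spX])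

theorem xc_eq (v : F) : ib ts * ia (xs (-v)) * (ib ts)⁻¹ = xR 6 (by norm_num) v := by
  rw [mul_inv_eq_iff_eq_mul]
  refine Subtype.ext ?_
  simp only [Submonoid.coe_mul, ia_coe, ib_coe, xR, spX, xs_coe, ts_coe, sp4_mul]
  congr 1 <;> simp

theorem xd_eq (t : F) : ia ts * ib (xs t) * (ia ts)⁻¹ = xR 7 (by norm_num) t := by
  rw [mul_inv_eq_iff_eq_mul]
  refine Subtype.ext ?_
  simp only [Submonoid.coe_mul, ia_coe, ib_coe, xR, spX, xs_coe, ts_coe, sp4_mul]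
  congr 1 <;> simp

theorem braid_sp : ia ts * ib ts * ia ts * ib ts = ib ts * ia ts * ib ts * ia (ts (F := F)) := by
  refine Subtype.ext ?_
  simp only [Submonoid.coe_mul, ia_coe, ib_coe, ts_coe, sp4_mul]
  congr 1 <;> simp

theorem refl_c_sp : ia ts * xR 6 (by norm_num) (1 : F) * (ia ts)⁻¹ = xR 6 (by norm_num) (-1) := by
  rw [mul_inv_eq_iff_eq_mul]
  refine Subtype.ext ?_
  simp only [Submonoid.coe_mul, ia_coe, xR, spX, ts_coe, sp4_mul]
  congr 1 <;> simp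

theorem refl_d_sp : ib ts * xR 7 (by norm_num) (1 : F) * (ib ts)⁻¹ = xR 7 (by norm_num) 1 := by
  rw [mul_inv_eq_iff_eq_mul]
  refine Subtype.ext ?_
  simp only [Submonoid.coe_mul, ib_coe, xR, spX, ts_coe, sp4_mul]
  congr 1 <;> simp

theorem ha_ib (ζ : Fˣ) (x : SL(2, F)) : ia (ds ζ) * ib x * (ia (ds ζ))⁻¹ = ib (ds ζ⁻¹ * x * (ds ζ⁻¹)⁻¹) := by
  rw [mul_inv_eq_iff_eq_mul, ← ds_inv, inv_inv]
  refine Subtype.ext ?_
  simp only [Submonoid.coe_mul, ia_coe, ib_coe, sl_mul_apply, ds_coe, sp4_mul]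
  congr 1 <;> simp <;> field_simp

theorem hb_ia (ζ : Fˣ) (x : SL(2, F)) : ib (ds ζ) * ia x * (ib (ds ζ))⁻¹ = ia (adj ζ x) := by
  rw [mul_inv_eq_iff_eq_mul]
  refine Subtype.ext ?_
  simp only [Submonoid.coe_mul, ia_coe, ib_coe, adj_coe, ds_coe, sp4_mul]
  congr 1 <;> simp <;> field_simp

theorem xa_xb : xR 5 (by norm_num) (1 : F) * xR 4 (by norm_num) (-1) =
    xR 7 (by norm_num) 1 * xR 6 (by norm_num) 1 * xR 4 (by norm_num) (-1) * xR 5 (by norm_num) 1 := by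
  refine Subtype.ext ?_
  simp only [Submonoid.coe_mul, xR, spX, sp4_mul]
  congr 1 <;> ring

theorem xa_xc : xR 5 (by norm_num) (1 : F) * xR 6 (by norm_num) 1 =
    xR 7 (by norm_num) 2 * xR 6 (by norm_num) 1 * xR 5 (by norm_num) 1 := by
  refine Subtype.ext ?_
  simp only [Submonoid.coe_mul, xR, spX, sp4_mul]
  congr 1 <;> ring

theorem comm_sp (r s : ℕ) (hr : r < 8) (hs : s < 8) (h : (r, s) = (5, 7) ∨ (r, s) = (4, 6) ∨ (r, s) = (4, 7) ∨ (r, s) = (6, 7))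
    (t u : F) : xR r hr t * xR s hs u = xR s hs u * xR r hr t := by
  refine Subtype.ext ?_
  rcases h with h | h | h | h <;> cases h <;>
    (simp only [Submonoid.coe_mul, xR, spX, sp4_mul]; congr 1 <;> ring)

theorem closure_range_eq_top :
    Subgroup.closure (Set.range (ia : SL(2, F) →* _) ∪ Set.range (ib : SL(2, F) →* Matrix.symplecticGroup (Fin 2) F)) = ⊤ := by
  set W := Subgroup.closure (Set.range (ia : SL(2, F) →* _) ∪ Set.range (ib : SL(2, F) →* Matrix.symplecticGroup (Fin 2) F))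
  have hA : ∀ y, ia y ∈ W := fun y => Subgroup.subset_closure (Or.inl ⟨y, rfl⟩)
  have hB : ∀ y, ib y ∈ W := fun y => Subgroup.subset_closure (Or.inr ⟨y, rfl⟩)
  have hcj : ∀ {g x : Matrix.symplecticGroup (Fin 2) F}, g ∈ W → x ∈ W → g * x * g⁻¹ ∈ W := fun hg hx =>
    W.mul_mem (W.mul_mem hg hx) (W.inv_mem hg)
  have h5 : ∀ t, xR 5 (by norm_num) t ∈ W := fun t => ia_xs t ▸ hA _
  have h4 : ∀ t, xR 4 (by norm_num) t ∈ W := fun t => by
    rw [← neg_neg t, ← ib_xs]; exact hB _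
  have h2 : ∀ t, xR 2 (by norm_num) t ∈ W := fun t => by
    have e : xR 2 (by norm_num) t = ia ts * xR 5 (by norm_num) (-t) * (ia ts)⁻¹ := by
      rw [eq_mul_inv_iff_mul_eq]
      refine Subtype.ext ?_
      simp only [Submonoid.coe_mul, ia_coe, xR, spX, ts_coe, sp4_mul]
      congr 1 <;> simp
    rw [e]; exact hcj (hA _) (h5 _)
  have h3 : ∀ t, xR 3 (by norm_num) t ∈ W := fun t => by
    have e : xR 3 (by norm_num) t = ib ts * xR 4 (by norm_num) (-t) * (ib ts)⁻¹ := by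
      rw [eq_mul_inv_iff_mul_eq]
      refine Subtype.ext ?_
      simp only [Submonoid.coe_mul, ib_coe, xR, spX, ts_coe, sp4_mul]
      congr 1 <;> simp
    rw [e]; exact hcj (hB _) (h4 _)
  have h0 : ∀ t, xR 0 (by norm_num) t ∈ W := fun t => by
    have e : xR 0 (by norm_num) t = ia ts * xR 3 (by norm_num) (-t) * (ia ts)⁻¹ := by
      rw [eq_mul_inv_iff_mul_eq]
      refine Subtype.ext ?_
      simp only [Submonoid.coe_mul, ia_coe, xR, spX, ts_coe, sp4_mul]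
      congr 1 <;> simp
    rw [e]; exact hcj (hA _) (h3 _)
  have h1 : ∀ t, xR 1 (by norm_num) t ∈ W := fun t => by
    have e : xR 1 (by norm_num) t = ib ts * xR 2 (by norm_num) (-t) * (ib ts)⁻¹ := by
      rw [eq_mul_inv_iff_mul_eq]
      refine Subtype.ext ?_
      simp only [Submonoid.coe_mul, ib_coe, xR, spX, ts_coe, sp4_mul]
      congr 1 <;> simp
    rw [e]; exact hcj (hB _) (h2 _)
  have h6 : ∀ t, xR 6 (by norm_num) t ∈ W := fun t => xc_eq t ▸ hcj (hB _) (hA _)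
  have h7 : ∀ t, xR 7 (by norm_num) t ∈ W := fun t => xd_eq t ▸ hcj (hA _) (hB _)
  have hle : (spHom (F := F)).range ≤ W := by
    rw [MonoidHom.range_eq_map, ← PresentedGroup.closure_range_of, MonoidHom.map_closure, Subgroup.closure_le]
    rintro _ ⟨_, ⟨⟨r, t⟩, rfl⟩, rfl⟩
    have e : spHom (PresentedGroup.of (r, t)) = spGen (r, t) := PresentedGroup.toGroup.of spGen_rels
    rw [e]
    have key : ∀ k (hk : k < 8), xR k hk t ∈ W := fun k hk => by
      interval_cases k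
      exacts [h0 t, h1 t, h2 t, h3 t, h4 t, h5 t, h6 t, h7 t]
    exact key r r.2
  rwa [MonoidHom.range_eq_top.2 spHom_surjective, top_le_iff] at hle

/-- The central involution. -/
theorem center_le (g : Matrix.symplecticGroup (Fin 2) F) (hg : g ∈ Subgroup.center _) :
    g = 1 ∨ g = ia (ds (-1 : Fˣ)) := by
  open Cfsg.Lib.Linear.Symp in
  obtain ⟨a, ha, h⟩ := (mem_center_iff_smul (spB_nondegenerate 2 F) (spB_isAlt 2 F) (spEquiv g)).1
    (Subgroup.mem_center_iff.2 fun k => by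
      have := congrArg spEquiv (Subgroup.mem_center_iff.1 hg (spEquiv.symm k))
      simpa using this)
  have hcoe : (g : Matrix (Fin 2 ⊕ Fin 2) (Fin 2 ⊕ Fin 2) F) = a • (1 : Matrix (Fin 2 ⊕ Fin 2) (Fin 2 ⊕ Fin 2) F) := by
    refine Matrix.ext_iff_mulVec.2 fun v => ?_
    rw [← Cfsg.Lib.Linear.Symp.spEquiv_apply, h, Matrix.smul_mulVec, Matrix.one_mulVec]
  rcases mul_self_eq_one_iff.1 ha with rfl | rfl
  · exact Or.inl (Subtype.ext (by rw [hcoe, one_smul]; rfl))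
  · refine Or.inr (Subtype.ext ?_)
    rw [hcoe, neg_one_smul, ia_coe, ← sp4_one, ds_coe]
    simp [sp4, Matrix.fromBlocks_neg]

end Cfsg.Lib.Linear.ShortPres.Four
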