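import Cfsg.Agent.Lib.Linear.ShortPres.SpFour.Cover
import Cfsg.Agent.Lib.Linear.ShortPres.SpFour.Mat
import Cfsg.Agent.Lib.Linear.ShortPres.SLThree.Main
import Cfsg.Agent.S2286
import Cfsg.Agent.S0245

/-!
# Short presentations of `Sp₄(q)` and `PSp₄(q)`
-/

set_option autoImplicit false

namespace Cfsg.Lib.Linear.ShortPres.Four

open Matrix
open scoped MatrixGroups

variable {F : Type*} [Field F] [Fintype F]

/-- A subgroup containing the three standard generators is everything. -/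
theorem eq_top_of_gens {ζ : Fˣ} (hgen : ∀ x : Fˣ, ∃ i : ℕ, x = ζ ^ i) {W : Subgroup SL(2, F)}
    (h1 : xs (1 : F) ∈ W) (hd : ds ζ ∈ W) (ht : ts ∈ W) : W = ⊤ := by
  obtain ⟨p, hp⟩ := CharP.exists F
  haveI : CharP F p := hp
  haveI : Fact p.Prime := ⟨CharP.char_is_prime F p⟩
  have hz : ∀ x : Fˣ, x ∈ Subgroup.zpowers ζ := fun x => by
    obtain ⟨i, rfl⟩ := hgen x
    exact pow_mem (Subgroup.mem_zpowers _) i
  have hord : orderOf (ζ : F) = Fintype.card F - 1 := by
    rw [orderOf_units, orderOf_eq_card_of_forall_mem_zpowers hz, Nat.card_units, Nat.card_eq_fintype_card]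
  refine closure_gens (mem_of_gens (gens_sq (p := p) hord) (fun c => xs c ∈ W) ?_ h1 ?_ ?_) ht
  · rw [xs_zero]; exact one_mem _
  · intro x y hx hy; rw [xs_add]; exact mul_mem hx hy
  · intro x hx; rw [← ds_conj]; exact mul_mem (mul_mem hd hx) (inv_mem hd)

section Rels

variable {G H : Type*} [Group G] [Group H]

/-- The linking relations. -/
def extra (ζ : Fˣ) (A B : SL(2, F) → G) : List (G × G) :=
  [(A (ds ζ) * B (xs 1) * (A (ds ζ))⁻¹, B (ds ζ⁻¹ * xs 1 * (ds ζ⁻¹)⁻¹)),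
   (A (ds ζ) * B (ds ζ) * (A (ds ζ))⁻¹, B (ds ζ⁻¹ * ds ζ * (ds ζ⁻¹)⁻¹)),
   (A (ds ζ) * B ts * (A (ds ζ))⁻¹, B (ds ζ⁻¹ * ts * (ds ζ⁻¹)⁻¹)),
   (B (ds ζ) * A (xs 1) * (B (ds ζ))⁻¹, A (adj ζ (xs 1))),
   (B (ds ζ) * A ts * (B (ds ζ))⁻¹, A (adj ζ ts)),
   (A ts * B ts * A ts * B ts, B ts * A ts * B ts * A ts),
   (A ts * (B ts * A (xs (-1)) * (B ts)⁻¹) * (A ts)⁻¹, B ts * A (xs (-(-1))) * (B ts)⁻¹),
   (B ts * (A ts * B (xs 1) * (A ts)⁻¹) * (B ts)⁻¹, A ts * B (xs 1) * (A ts)⁻¹),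
   (A (xs 1) * B (xs 1),
    A ts * B (xs 1) * (A ts)⁻¹ * (B ts * A (xs (-1)) * (B ts)⁻¹) * B (xs 1) * A (xs 1)),
   (A (xs 1) * (B ts * A (xs (-1)) * (B ts)⁻¹),
    A ts * B (xs 2) * (A ts)⁻¹ * (B ts * A (xs (-1)) * (B ts)⁻¹) * A (xs 1)),
   (A (xs 1) * (A ts * B (xs 1) * (A ts)⁻¹), A ts * B (xs 1) * (A ts)⁻¹ * A (xs 1)),
   (B (xs 1) * (B ts * A (xs (-1)) * (B ts)⁻¹), B ts * A (xs (-1)) * (B ts)⁻¹ * B (xs 1)),
   (B (xs 1) * (A ts * B (xs 1) * (A ts)⁻¹), A ts * B (xs 1) * (A ts)⁻¹ * B (xs 1)),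
   (B ts * A (xs (-1)) * (B ts)⁻¹ * (A ts * B (xs 1) * (A ts)⁻¹),
    A ts * B (xs 1) * (A ts)⁻¹ * (B ts * A (xs (-1)) * (B ts)⁻¹))]

omit [Fintype F] in
theorem map_extra (f : G →* H) (ζ : Fˣ) (A B : SL(2, F) → G) :
    (extra ζ A B).map (fun e => (f e.1, f e.2)) = extra ζ (fun y => f (A y)) (fun y => f (B y)) := by
  simp [extra]

omit [Fintype F] in
theorem extra_sat (ζ : Fˣ) : ∀ e ∈ extra ζ (fun y => ia y) (fun y => ib y), e.1 = e.2 := by
  intro e he
  simp only [extra, List.mem_cons, List.not_mem_nil, or_false, ia_xs, ib_xs, xd_eq] at he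
  have hc : ∀ v : F, ib ts * xR 5 (by norm_num) (-v) * (ib ts)⁻¹ = xR 6 (by norm_num) v := fun v => by
    rw [← ia_xs, xc_eq]
  rcases he with rfl | rfl | rfl | rfl | rfl | rfl | rfl | rfl | rfl | rfl | rfl | rfl | rfl | rfl <;>
    simp only [← ib_xs, ← ia_xs]
  · exact ha_ib ζ _
  · exact ha_ib ζ _
  · exact ha_ib ζ _
  · exact hb_ia ζ _
  · exact hb_ia ζ _
  · exact braid_sp
  · rw [xc_eq, xc_eq]; exact refl_c_sp
  · rw [xd_eq]; exact refl_d_sp
  · rw [xc_eq, xd_eq, ia_xs, ib_xs]; exact xa_xb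
  · rw [xc_eq, xd_eq, ia_xs]; exact xa_xc
  · rw [xd_eq, ia_xs]; exact comm_sp 5 7 _ _ (Or.inl rfl) _ _
  · rw [xc_eq, ib_xs]; exact comm_sp 4 6 _ _ (Or.inr (Or.inl rfl)) _ _
  · rw [xd_eq, ib_xs]; exact comm_sp 4 7 _ _ (Or.inr (Or.inr (Or.inl rfl))) _ _
  · rw [xc_eq, xd_eq]; exact comm_sp 6 7 _ _ (Or.inr (Or.inr (Or.inr rfl))) _ _

/-- The bound on a group generated by two linked rank one groups. -/
theorem bound {ζ : Fˣ} (hgen : ∀ x : Fˣ, ∃ i : ℕ, x = ζ ^ i) {P : Type*} [Group P] (A B : SL(2, F) →* P)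
    (hP : Subgroup.closure (Set.range A ∪ Set.range B) = ⊤) (hr : ∀ e ∈ extra ζ A B, e.1 = e.2) :
    Finite P ∧ Nat.card P ≤ Nat.card (Matrix.symplecticGroup (Fin 2) F) := by
  simp only [extra, List.forall_mem_cons] at hr
  obtain ⟨r1, r2, r3, r4, r5, r6, r7, r8, r9, r10, r11, r12, r13, r14, -⟩ := hr
  have haB : ∀ x, A (ds ζ) * B x * (A (ds ζ))⁻¹ = B (ds ζ⁻¹ * x * (ds ζ⁻¹)⁻¹) := fun x => by
    have h := eq_top_of_gens hgen (W := MonoidHom.eqLocus ((MulAut.conj (A (ds ζ))).toMonoidHom.comp B)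
      (B.comp (MulAut.conj (ds ζ⁻¹)).toMonoidHom)) r1 r2 r3
    exact (show x ∈ MonoidHom.eqLocus ((MulAut.conj (A (ds ζ))).toMonoidHom.comp B)
      (B.comp (MulAut.conj (ds ζ⁻¹)).toMonoidHom) from h ▸ Subgroup.mem_top x)
  have hbA : ∀ x, B (ds ζ) * A x * (B (ds ζ))⁻¹ = A (adj ζ x) := fun x => by
    have r2' : B (ds ζ) * A (ds ζ) * (B (ds ζ))⁻¹ = A (adj ζ (ds ζ)) := by
      rw [adj_ds]
      have h2 : A (ds ζ) * B (ds ζ) * (A (ds ζ))⁻¹ = B (ds ζ) := by
        rw [r2]; congr 1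
        rw [← ds_inv, inv_inv, ← ds_mul, ← ds_mul, mul_comm ζ⁻¹, mul_inv_cancel, one_mul]
      exact mul_inv_eq_iff_eq_mul.2 (mul_inv_eq_iff_eq_mul.1 h2).symm
    have h := eq_top_of_gens hgen (W := MonoidHom.eqLocus ((MulAut.conj (B (ds ζ))).toMonoidHom.comp A)
      (A.comp (adj ζ))) r4 r2' r5
    exact (show x ∈ MonoidHom.eqLocus ((MulAut.conj (B (ds ζ))).toMonoidHom.comp A) (A.comp (adj ζ)) from
      h ▸ Subgroup.mem_top x)
  let S : Frame F P :=
    { A := A, B := B, ζ := ζ, hgen := hgen, gen := hP, ha_B := haB, hb_A := hbA, braid := r6, refl_c := r7,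
      refl_d := r8 }
  have hseeds : S.Seeds := ⟨r9, r10, r11, r12, r13, r14⟩
  obtain ⟨hfin, hle⟩ := S.card_le (S.full_of_seeds hseeds)
  refine ⟨hfin, hle.trans (le_of_eq ?_)⟩
  rw [Cfsg.Agent.S0245.result rfl 2, Cfsg.Lib.Linear.Two.card_SL_two, Finset.prod_range_succ, Finset.prod_range_one]
  obtain ⟨E, hE⟩ : ∃ E, Fintype.card F = E + 1 := ⟨Fintype.card F - 1, by
    have := Fintype.card_pos (α := F); omega⟩
  rw [hE]
  rw [show (E + 1) ^ 2 - 1 = E * (E + 2) from Nat.sub_eq_of_eq_add (by ring),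
    show E + 1 - 1 = E from rfl,
    show (E + 1) ^ (2 * (1 + 1)) - 1 = E * (E + 2) * ((E + 1) ^ 2 + 1) from Nat.sub_eq_of_eq_add (by ring)]
  ring

end Rels

/-- A tuple satisfying the relations is the image of the presented tuple. -/
theorem descend_hom {k : ℕ} {M : Type*} [Group M] [Finite M] (E : List (FreeGroup (Fin k) × FreeGroup (Fin k)))
    (v : Fin k → M) (hE : ∀ e ∈ E, FreeGroup.lift v e.1 = FreeGroup.lift v e.2)
    (hgen : Subgroup.closure (Set.range v) = ⊤)
    (hb : ∀ (P : Type) [Group P] (o : Fin k → P), Subgroup.closure (Set.range o) = ⊤ →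
      (∀ e ∈ E, FreeGroup.lift o e.1 = FreeGroup.lift o e.2) → Finite P ∧ Nat.card P ≤ Nat.card M)
    {Q : Type*} [Group Q] (o : Fin k → Q) (_ho : Subgroup.closure (Set.range o) = ⊤)
    (hr : ∀ e ∈ E, FreeGroup.lift o e.1 = FreeGroup.lift o e.2) :
    ∃ ψ : M →* Q, ψ.comp (FreeGroup.lift v) = FreeGroup.lift o := by
  set R : Set (FreeGroup (Fin k)) := {r | ∃ e ∈ E, r = e.1 * e.2⁻¹}
  have kill : ∀ {X : Type _} [Group X] (x : Fin k → X),
      (∀ e ∈ E, FreeGroup.lift x e.1 = FreeGroup.lift x e.2) → ∀ r ∈ R, FreeGroup.lift x r = 1 := by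
    rintro X _ x hx r ⟨e, he, rfl⟩
    rw [map_mul, map_inv, hx e he, mul_inv_cancel]
  have kv : ∀ r ∈ R, FreeGroup.lift v r = 1 := by
    rintro r ⟨e, he, rfl⟩
    rw [map_mul, map_inv, hE e he, mul_inv_cancel]
  have hmk : FreeGroup.lift (PresentedGroup.of (rels := R)) = PresentedGroup.mk R :=
    FreeGroup.ext_hom _ _ fun i => by simp [PresentedGroup.of]
  obtain ⟨hf, hle⟩ := hb (PresentedGroup R) PresentedGroup.of (PresentedGroup.closure_range_of _) fun e he => by
    rw [hmk, ← mul_inv_eq_one, ← map_inv, ← map_mul]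
    exact PresentedGroup.one_of_mem ⟨e, he, rfl⟩
  have hsurj : Function.Surjective (PresentedGroup.toGroup kv) := by
    rw [← MonoidHom.range_eq_top, eq_top_iff, ← hgen, Subgroup.closure_le]
    rintro _ ⟨i, rfl⟩
    exact ⟨PresentedGroup.of i, PresentedGroup.toGroup.of kv⟩
  haveI := hf
  let e := MulEquiv.ofBijective _ ((Nat.bijective_iff_surjective_and_card (PresentedGroup.toGroup kv)).2
    ⟨hsurj, le_antisymm hle (Nat.card_le_card_of_surjective _ hsurj)⟩)
  refine ⟨(PresentedGroup.toGroup (kill o hr)).comp e.symm.toMonoidHom, FreeGroup.ext_hom _ _ fun i => ?_⟩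
  have : e.symm (v i) = PresentedGroup.of i := e.symm_apply_eq.2 (PresentedGroup.toGroup.of kv).symm
  simp [this]

/-- Presentations of `Sp₄` and of its central quotient. -/
theorem present_Sp_four :
    (∃ rels : Finset (FreeGroup (Fin 6)), rels.card ≤ 35 ∧
      Nonempty (PresentedGroup (↑rels : Set (FreeGroup (Fin 6))) ≃* Matrix.symplecticGroup (Fin 2) F)) ∧
    (∃ rels : Finset (FreeGroup (Fin 6)), rels.card ≤ 36 ∧
      Nonempty (PresentedGroup (↑rels : Set (FreeGroup (Fin 6))) ≃* Cfsg.PSp 2 F)) := by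
  classical
  obtain ⟨ζ, hζ⟩ := IsCyclic.exists_generator (α := Fˣ)
  have hgen : ∀ x : Fˣ, ∃ i : ℕ, x = ζ ^ i := fun x => by
    obtain ⟨i, hi⟩ := mem_powers_iff_mem_zpowers.2 (hζ x)
    exact ⟨i, hi.symm⟩
  obtain ⟨⟨R, hR, ⟨e⟩⟩, -, -⟩ := Cfsg.Agent.S2286.result (F := F)
  set v : Fin 3 → SL(2, F) := fun i => e (PresentedGroup.of i) with hv
  have hlift : FreeGroup.lift v = e.toMonoidHom.comp (PresentedGroup.mk _) :=
    FreeGroup.ext_hom _ _ fun i => by simp [hv, PresentedGroup.of]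
  have hsurj : ∀ x, ∃ w, FreeGroup.lift v w = x := fun x => by
    obtain ⟨w, hw⟩ := PresentedGroup.mk_surjective _ (e.symm x)
    exact ⟨w, by rw [hlift]; simp [hw]⟩
  choose w hw using hsurj
  let jA : Fin 3 → Fin 6 := fun i => ⟨i.1, by omega⟩
  let jB : Fin 3 → Fin 6 := fun i => ⟨i.1 + 3, by omega⟩
  let IA := FreeGroup.lift fun i => FreeGroup.of (jA i)
  let IB := FreeGroup.lift fun i => FreeGroup.of (jB i)
  let wA : SL(2, F) → FreeGroup (Fin 6) := fun y => IA (w y)
  let wB : SL(2, F) → FreeGroup (Fin 6) := fun y => IB (w y)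
  set E : List (FreeGroup (Fin 6) × FreeGroup (Fin 6)) :=
    (R.toList.map fun r => (IA r, 1)) ++ (R.toList.map fun r => (IB r, 1)) ++ extra ζ wA wB with hEdef
  have hlen : E.length ≤ 32 := by
    simp only [hEdef, List.length_append, List.length_map, Finset.length_toList]
    have : (extra ζ wA wB).length = 14 := rfl
    omega
  let vP : Fin 6 → Matrix.symplecticGroup (Fin 2) F := fun i =>
    if h : i.1 < 3 then ia (v ⟨i.1, h⟩) else ib (v ⟨i.1 - 3, by omega⟩)
  have hvA : (FreeGroup.lift vP).comp IA = (ia.comp (FreeGroup.lift v)) :=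
    FreeGroup.ext_hom _ _ fun i => by simp [IA, vP, jA]
  have hvB : (FreeGroup.lift vP).comp IB = (ib.comp (FreeGroup.lift v)) :=
    FreeGroup.ext_hom _ _ fun i => by simp [IB, vP, jB]
  have hR1 : ∀ r ∈ R, FreeGroup.lift v r = 1 := fun r hr => by
    rw [hlift, MonoidHom.comp_apply, PresentedGroup.one_of_mem (Finset.mem_coe.2 hr), map_one]
  have hsat : ∀ d ∈ E, FreeGroup.lift vP d.1 = FreeGroup.lift vP d.2 := by
    intro d hd
    simp only [hEdef, List.mem_append, List.mem_map, Finset.mem_toList] at hd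
    rcases hd with (⟨r, hr, rfl⟩ | ⟨r, hr, rfl⟩) | hd
    · rw [← MonoidHom.comp_apply, hvA, MonoidHom.comp_apply, hR1 r hr, map_one, map_one]
    · rw [← MonoidHom.comp_apply, hvB, MonoidHom.comp_apply, hR1 r hr, map_one, map_one]
    · have hm : (FreeGroup.lift vP d.1, FreeGroup.lift vP d.2) ∈
          (extra ζ wA wB).map (fun e => (FreeGroup.lift vP e.1, FreeGroup.lift vP e.2)) := List.mem_map.2 ⟨d, hd, rfl⟩
      rw [map_extra] at hm
      have hA' : (fun y => FreeGroup.lift vP (wA y)) = fun y => ia y := funext fun y => by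
        show (FreeGroup.lift vP).comp IA (w y) = _
        rw [hvA, MonoidHom.comp_apply, hw]
      have hB' : (fun y => FreeGroup.lift vP (wB y)) = fun y => ib y := funext fun y => by
        show (FreeGroup.lift vP).comp IB (w y) = _
        rw [hvB, MonoidHom.comp_apply, hw]
      rw [hA', hB'] at hm
      exact extra_sat ζ _ hm
  have hgenM : Subgroup.closure (Set.range vP) = ⊤ := by
    rw [eq_top_iff, ← closure_range_eq_top, Subgroup.closure_le, ← FreeGroup.range_lift_eq_closure]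
    rintro _ (⟨y, rfl⟩ | ⟨y, rfl⟩)
    · exact ⟨wA y, by show (FreeGroup.lift vP).comp IA (w y) = _; rw [hvA, MonoidHom.comp_apply, hw]⟩
    · exact ⟨wB y, by show (FreeGroup.lift vP).comp IB (w y) = _; rw [hvB, MonoidHom.comp_apply, hw]⟩
  have hbound : ∀ (P : Type) [Group P] (o : Fin 6 → P), Subgroup.closure (Set.range o) = ⊤ →
      (∀ d ∈ E, FreeGroup.lift o d.1 = FreeGroup.lift o d.2) →
      Finite P ∧ Nat.card P ≤ Nat.card (Matrix.symplecticGroup (Fin 2) F) := by
    intro P _ o ho hr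
    have hkA : ∀ r ∈ (R : Set (FreeGroup (Fin 3))), FreeGroup.lift (fun i => o (jA i)) r = 1 := fun r hr' => by
      have := hr _ (List.mem_append_left _ (List.mem_append_left _ (List.mem_map.2 ⟨r, Finset.mem_toList.2 hr', rfl⟩)))
      rw [map_one] at this
      rw [← this, ← MonoidHom.comp_apply]
      congr 1
      exact FreeGroup.ext_hom _ _ fun i => by simp [IA]
    have hkB : ∀ r ∈ (R : Set (FreeGroup (Fin 3))), FreeGroup.lift (fun i => o (jB i)) r = 1 := fun r hr' => by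
      have := hr _ (List.mem_append_left _ (List.mem_append_right _ (List.mem_map.2 ⟨r, Finset.mem_toList.2 hr', rfl⟩)))
      rw [map_one] at this
      rw [← this, ← MonoidHom.comp_apply]
      congr 1
      exact FreeGroup.ext_hom _ _ fun i => by simp [IB]
    set A : SL(2, F) →* P := (PresentedGroup.toGroup hkA).comp e.symm.toMonoidHom
    set B : SL(2, F) →* P := (PresentedGroup.toGroup hkB).comp e.symm.toMonoidHom
    have hAw : ∀ y, FreeGroup.lift o (wA y) = A y := fun y => by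
      have h1 : e.symm y = PresentedGroup.mk _ (w y) := by
        rw [MulEquiv.symm_apply_eq]; conv_lhs => rw [← hw y, hlift]
        rfl
      show (FreeGroup.lift o).comp IA (w y) = PresentedGroup.toGroup hkA (e.symm y)
      rw [h1, ← MonoidHom.comp_apply (PresentedGroup.toGroup hkA)]
      congr 1
      exact FreeGroup.ext_hom _ _ fun i => by
        simp [IA]; exact (PresentedGroup.toGroup.of hkA (x := i)).symm
    have hBw : ∀ y, FreeGroup.lift o (wB y) = B y := fun y => by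
      have h1 : e.symm y = PresentedGroup.mk _ (w y) := by
        rw [MulEquiv.symm_apply_eq]; conv_lhs => rw [← hw y, hlift]
        rfl
      show (FreeGroup.lift o).comp IB (w y) = PresentedGroup.toGroup hkB (e.symm y)
      rw [h1, ← MonoidHom.comp_apply (PresentedGroup.toGroup hkB)]
      congr 1
      exact FreeGroup.ext_hom _ _ fun i => by
        simp [IB]; exact (PresentedGroup.toGroup.of hkB (x := i)).symm
    refine bound hgen A B ?_ ?_
    · rw [eq_top_iff, ← ho, Subgroup.closure_le]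
      rintro _ ⟨i, rfl⟩
      refine Subgroup.subset_closure ?_
      by_cases hi : i.1 < 3
      · refine Or.inl ⟨v ⟨i.1, hi⟩, ?_⟩
        show PresentedGroup.toGroup hkA (e.symm (e (PresentedGroup.of ⟨i.1, hi⟩))) = o i
        rw [MulEquiv.symm_apply_apply, PresentedGroup.toGroup.of]
      · refine Or.inr ⟨v ⟨i.1 - 3, by omega⟩, ?_⟩
        show PresentedGroup.toGroup hkB (e.symm (e (PresentedGroup.of ⟨i.1 - 3, by omega⟩))) = o i
        rw [MulEquiv.symm_apply_apply, PresentedGroup.toGroup.of]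
        congr 1
        exact Fin.ext (by simp [jB]; omega)
    · intro d hd
      have hm : d ∈ (extra ζ wA wB).map (fun e => (FreeGroup.lift o e.1, FreeGroup.lift o e.2)) := by
        rw [map_extra, show (fun y => FreeGroup.lift o (wA y)) = A from funext hAw,
          show (fun y => FreeGroup.lift o (wB y)) = B from funext hBw]
        exact hd
      obtain ⟨d', hd', rfl⟩ := List.mem_map.1 hm
      exact hr d' (List.mem_append_right _ hd')
  refine ⟨Exists.imp (fun rs h => ⟨h.1.trans (hlen.trans (by norm_num)), h.2⟩)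
    (Three.present_fin E vP hsat hgenM fun P _ o _ ho _ hr => hbound P o ho hr), ?_⟩
  haveI : Finite (Cfsg.PSp 2 F) := Quotient.finite _
  set π : Matrix.symplecticGroup (Fin 2) F →* Cfsg.PSp 2 F := QuotientGroup.mk' _
  set z0 : FreeGroup (Fin 6) := wA (ds (-1 : Fˣ))
  have hπsurj : Function.Surjective π := QuotientGroup.mk'_surjective _
  have hπlift : FreeGroup.lift (fun i => π (vP i)) = π.comp (FreeGroup.lift vP) :=
    FreeGroup.ext_hom _ _ fun i => by simp
  have hz : FreeGroup.lift vP z0 = ia (ds (-1 : Fˣ)) := by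
    show (FreeGroup.lift vP).comp IA (w _) = _
    rw [hvA, MonoidHom.comp_apply, hw]
  have hzc : π (ia (ds (-1 : Fˣ))) = 1 := by
    refine (QuotientGroup.eq_one_iff _).2 (Subgroup.mem_center_iff.2 fun g => Subtype.ext ?_)
    have hneg : ((ia (ds (-1 : Fˣ)) : Matrix.symplecticGroup (Fin 2) F) : Matrix (Fin 2 ⊕ Fin 2) (Fin 2 ⊕ Fin 2) F) = -1 := by
      rw [ia_coe, ← Cfsg.Lib.Chev.B2Sp.sp4_one, ds_coe]
      simp [Cfsg.Lib.Chev.B2Sp.sp4, Matrix.fromBlocks_neg]
    rw [Submonoid.coe_mul, Submonoid.coe_mul, hneg, mul_neg, neg_mul, mul_one, one_mul]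
  refine Exists.imp (fun rs h => ⟨h.1.trans (by rw [List.length_append, List.length_singleton]; omega), h.2⟩)
    (Three.present_fin (E ++ [(z0, 1)]) (fun i => π (vP i)) ?_ ?_ ?_)
  · intro d hd
    rw [hπlift, MonoidHom.comp_apply, MonoidHom.comp_apply]
    rcases List.mem_append.1 hd with h | h
    · rw [hsat d h]
    · rw [List.mem_singleton] at h
      subst h
      rw [hz, hzc, map_one, map_one]
  · rw [← FreeGroup.range_lift_eq_closure, hπlift, MonoidHom.range_eq_top]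
    refine hπsurj.comp (MonoidHom.range_eq_top.1 ?_)
    rw [FreeGroup.range_lift_eq_closure]; exact hgenM
  · intro P _ o φ ho _ hr
    obtain ⟨ψ, hψ⟩ := descend_hom E vP hsat hgenM hbound o ho fun d hd => hr d (List.mem_append_left _ hd)
    have hψz : ψ (ia (ds (-1 : Fˣ))) = 1 := by
      have := hr _ (List.mem_append_right _ (List.mem_singleton.2 rfl))
      rw [map_one] at this
      rw [← hz, ← MonoidHom.comp_apply, hψ]
      exact this
    have hker : Subgroup.center (Matrix.symplecticGroup (Fin 2) F) ≤ ψ.ker := by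
      intro g hg
      rcases center_le g hg with rfl | rfl
      · exact one_mem _
      · exact hψz
    have hsψ : Function.Surjective ψ := by
      have : Function.Surjective (ψ.comp (FreeGroup.lift vP)) := by
        rw [hψ, ← MonoidHom.range_eq_top, FreeGroup.range_lift_eq_closure]; exact ho
      exact Function.Surjective.of_comp (g := FreeGroup.lift vP) (by simpa using this)
    have hl : Function.Surjective (QuotientGroup.lift _ ψ hker) := fun x => by
      obtain ⟨g, rfl⟩ := hsψ x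
      exact ⟨QuotientGroup.mk g, rfl⟩
    exact ⟨Finite.of_surjective _ hl, Nat.card_le_card_of_surjective _ hl⟩

end Cfsg.Lib.Linear.ShortPres.Four
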