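import Cfsg.Agent.Lib.Linear.ShortPres.SpFour.Frame
import Cfsg.Agent.Lib.Linear.ShortPres.SLThree.Bilinear

/-!
# Short presentations of `Sp₄`: spreading the commutator relations
-/

set_option autoImplicit false

namespace Cfsg.Lib.Linear.ShortPres.Four

open Matrix
open scoped MatrixGroups

variable {F : Type*} [Field F] [Fintype F] {P : Type*} [Group P] (S : Frame F P)

namespace Frame

/-- The commutator relations at the value one. -/
structure Seeds : Prop where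
  ab : S.Xa 1 * S.Xb 1 = S.Xd 1 * S.Xc 1 * S.Xb 1 * S.Xa 1
  ac : S.Xa 1 * S.Xc 1 = S.Xd 2 * S.Xc 1 * S.Xa 1
  ad : Commute (S.Xa 1) (S.Xd 1)
  bc : Commute (S.Xb 1) (S.Xc 1)
  bd : Commute (S.Xb 1) (S.Xd 1)
  cd : Commute (S.Xc 1) (S.Xd 1)

/-- The commutator relations. -/
structure Full : Prop where
  ab : ∀ s t, S.Xa s * S.Xb t = S.Xd (s ^ 2 * t) * S.Xc (s * t) * S.Xb t * S.Xa s
  ac : ∀ s v, S.Xa s * S.Xc v = S.Xd (2 * s * v) * S.Xc v * S.Xa s
  ad : ∀ s w, Commute (S.Xa s) (S.Xd w)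
  bc : ∀ t v, Commute (S.Xb t) (S.Xc v)
  bd : ∀ t w, Commute (S.Xb t) (S.Xd w)
  cd : ∀ v w, Commute (S.Xc v) (S.Xd w)
  wa_c : ∀ v, S.wa * S.Xc v * S.wa⁻¹ = S.Xc (-v)
  wb_d : ∀ w, S.wb * S.Xd w * S.wb⁻¹ = S.Xd w

theorem all_of_zeta (Q : F → Prop) (h0 : Q 0) (h1 : Q 1) (hm : ∀ x, Q x → Q ((S.ζ : F) * x)) (c : F) : Q c := by
  rcases eq_or_ne c 0 with rfl | hc
  · exact h0
  obtain ⟨i, hi⟩ := S.hgen (Units.mk0 c hc)
  have : c = (S.ζ : F) ^ i := by rw [← Units.val_pow_eq_pow_val, ← hi, Units.val_mk0]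
  subst this
  clear hc hi
  induction i with
  | zero => simpa using h1
  | succ i ih => rw [pow_succ']; exact hm _ ih

theorem all_of_sq (Q : F → Prop) (h0 : Q 0) (h1 : Q 1) (hadd : ∀ x y, Q x → Q y → Q (x + y))
    (hm : ∀ x, Q x → Q ((S.ζ : F) ^ 2 * x)) (c : F) : Q c := by
  obtain ⟨p, hp⟩ := CharP.exists F
  haveI : CharP F p := hp
  haveI : Fact p.Prime := ⟨CharP.char_is_prime F p⟩
  have hz : ∀ x : Fˣ, x ∈ Subgroup.zpowers S.ζ := fun x => by
    obtain ⟨i, rfl⟩ := S.hgen x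
    exact pow_mem (Subgroup.mem_zpowers _) i
  have hord : orderOf (S.ζ : F) = Fintype.card F - 1 := by
    rw [orderOf_units, orderOf_eq_card_of_forall_mem_zpowers hz, Nat.card_units, Nat.card_eq_fintype_card]
  exact mem_of_gens (gens_sq (p := p) hord) Q h0 h1 hadd hm c

theorem ha_commute_Xc (v : F) : Commute S.ha (S.Xc v) := mul_inv_eq_iff_eq_mul.1 (S.ha_Xc v)

theorem hb_commute_Xd (w : F) : Commute S.hb (S.Xd w) := mul_inv_eq_iff_eq_mul.1 (S.hb_Xd w)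

/-- The seeds suffice. -/
theorem full_of_seeds (hs : S.Seeds) : S.Full := by
  have conjC : ∀ (g : P) {x y : P}, Commute x y → Commute (g * x * g⁻¹) (g * y * g⁻¹) := fun g x y h => by
    simpa using h.map (MulAut.conj g).toMonoidHom
  have had1 : ∀ s, Commute (S.Xa s) (S.Xd 1) := S.all_of_zeta _ (by rw [Xa_zero]; exact Commute.one_left _) hs.ad
    fun x hx => by
      have := conjC S.hb⁻¹ hx
      have e1 : S.hb⁻¹ * S.Xa x * S.hb⁻¹⁻¹ = S.Xa ((S.ζ : F) * x) := by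
        have h' := S.hb_Xa ((S.ζ : F) * x)
        rw [inv_mul_cancel_left₀ S.ζ.ne_zero] at h'
        rw [← h']; simp [mul_assoc]
      have e2 : S.hb⁻¹ * S.Xd 1 * S.hb⁻¹⁻¹ = S.Xd 1 := by
        rw [inv_inv, mul_assoc, ← (S.hb_commute_Xd 1).eq, inv_mul_cancel_left]
      rwa [e1, e2] at this
  have had : ∀ s w, Commute (S.Xa s) (S.Xd w) := fun s => S.all_of_sq _ (by rw [Xd_zero]; exact Commute.one_right _)
    (had1 s) (fun x y hx hy => by rw [Xd_add]; exact hx.mul_right hy) fun x hx => by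
      have := conjC (S.ha * S.hb * S.hb) hx
      rwa [(S.habb _).1, (S.habb _).2.2.2] at this
  have hbc1 : ∀ t, Commute (S.Xb t) (S.Xc 1) := S.all_of_sq _ (by rw [Xb_zero]; exact Commute.one_left _) hs.bc
    (fun x y hx hy => by rw [Xb_add]; exact hx.mul_left hy) fun x hx => by
      have := conjC S.ha⁻¹ hx
      have e1 : S.ha⁻¹ * S.Xb x * S.ha⁻¹⁻¹ = S.Xb ((S.ζ : F) ^ 2 * x) := by
        have h' := S.ha_Xb ((S.ζ : F) ^ 2 * x)
        rw [inv_mul_cancel_left₀ (pow_ne_zero _ S.ζ.ne_zero)] at h'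
        rw [← h']; simp [mul_assoc]
      have e2 : S.ha⁻¹ * S.Xc 1 * S.ha⁻¹⁻¹ = S.Xc 1 := by
        rw [inv_inv, mul_assoc, ← (S.ha_commute_Xc 1).eq, inv_mul_cancel_left]
      rwa [e1, e2] at this
  have hbc : ∀ t v, Commute (S.Xb t) (S.Xc v) := fun t => S.all_of_zeta _ (by rw [Xc_zero]; exact Commute.one_right _)
    (hbc1 t) fun x hx => by
      have := conjC (S.ha * S.hb) hx
      rwa [(S.hab _).2.1, (S.hab _).2.2.1] at this
  have hbd1 : ∀ t, Commute (S.Xb t) (S.Xd 1) := S.all_of_sq _ (by rw [Xb_zero]; exact Commute.one_left _) hs.bd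
    (fun x y hx hy => by rw [Xb_add]; exact hx.mul_left hy) fun x hx => by
      have := conjC S.hb hx
      rwa [S.hb_Xb, S.hb_Xd] at this
  have hbd : ∀ t w, Commute (S.Xb t) (S.Xd w) := fun t => S.all_of_sq _ (by rw [Xd_zero]; exact Commute.one_right _)
    (hbd1 t) (fun x y hx hy => by rw [Xd_add]; exact hx.mul_right hy) fun x hx => by
      have := conjC (S.ha * S.hb) hx
      rwa [(S.hab _).2.1, (S.hab _).2.2.2] at this
  have hcd1 : ∀ w, Commute (S.Xc 1) (S.Xd w) := S.all_of_sq _ (by rw [Xd_zero]; exact Commute.one_right _) hs.cd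
    (fun x y hx hy => by rw [Xd_add]; exact hx.mul_right hy) fun x hx => by
      have := conjC S.ha hx
      rwa [S.ha_Xc, S.ha_Xd] at this
  have hcd : ∀ v w, Commute (S.Xc v) (S.Xd w) := fun v w => S.all_of_zeta (fun v => ∀ w, Commute (S.Xc v) (S.Xd w))
    (fun w => by rw [Xc_zero]; exact Commute.one_left _) hcd1
    (fun x hx w => by
      have := conjC S.hb (hx w)
      rwa [S.hb_Xc, S.hb_Xd] at this) v w
  have hab1 : ∀ s, S.Xa s * S.Xb 1 = S.Xd (s ^ 2) * S.Xc s * S.Xb 1 * S.Xa s :=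
    S.all_of_zeta _ (by simp [Xa_zero, Xc_zero, Xd_zero]) (by rw [one_pow]; exact hs.ab) fun x hx => by
      have := congrArg (fun v => S.ha * S.hb * v * (S.ha * S.hb)⁻¹) hx
      simp only [← conj_mul, (S.hab _).1, (S.hab _).2.1, (S.hab _).2.2.1, (S.hab _).2.2.2] at this
      rwa [mul_pow]
  have hab : ∀ s t, S.Xa s * S.Xb t = S.Xd (s ^ 2 * t) * S.Xc (s * t) * S.Xb t * S.Xa s := fun s =>
    S.all_of_sq _ (by simp [Xb_zero, Xc_zero, Xd_zero]) (by simpa using hab1 s)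
      (fun x y hx hy => by
        calc S.Xa s * S.Xb (x + y) = S.Xa s * S.Xb x * S.Xb y := by rw [Xb_add, mul_assoc]
          _ = S.Xd (s ^ 2 * x) * S.Xc (s * x) * S.Xb x * (S.Xa s * S.Xb y) := by rw [hx, mul_assoc]
          _ = S.Xd (s ^ 2 * x) * S.Xc (s * x) * (S.Xb x * S.Xd (s ^ 2 * y)) * S.Xc (s * y) * S.Xb y * S.Xa s := by
            rw [hy]; simp [mul_assoc]
          _ = S.Xd (s ^ 2 * x) * (S.Xc (s * x) * S.Xd (s ^ 2 * y)) * (S.Xb x * S.Xc (s * y)) * S.Xb y * S.Xa s := by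
            rw [(hbd x _).eq]; simp [mul_assoc]
          _ = _ := by rw [(hcd _ _).eq, (hbc _ _).eq, mul_add, mul_add, Xd_add, Xc_add, Xb_add]; simp [mul_assoc])
      fun x hx => by
        have := congrArg (fun v => S.ha * S.hb * S.hb * v * (S.ha * S.hb * S.hb)⁻¹) hx
        simp only [← conj_mul, (S.habb _).1, (S.habb _).2.1, (S.habb _).2.2.1, (S.habb _).2.2.2] at this
        rw [mul_left_comm (s ^ 2), mul_left_comm s]
        exact this
  have hac1 : ∀ s, S.Xa s * S.Xc 1 = S.Xd (2 * s) * S.Xc 1 * S.Xa s :=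
    S.all_of_sq _ (by simp [Xa_zero, Xd_zero]) (by rw [mul_one]; exact hs.ac)
      (fun x y hx hy => by
        calc S.Xa (x + y) * S.Xc 1 = S.Xa x * (S.Xa y * S.Xc 1) := by rw [Xa_add, mul_assoc]
          _ = (S.Xa x * S.Xd (2 * y)) * S.Xc 1 * S.Xa y := by rw [hy]; simp [mul_assoc]
          _ = S.Xd (2 * y) * (S.Xa x * S.Xc 1) * S.Xa y := by rw [(had _ _).eq]; simp [mul_assoc]
          _ = _ := by rw [hx, mul_add, add_comm (2 * x), Xd_add, Xa_add]; simp [mul_assoc])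
      fun x hx => by
        have := congrArg (fun v => S.ha * v * S.ha⁻¹) hx
        simp only [← conj_mul, S.ha_Xa, S.ha_Xc, S.ha_Xd] at this
        rw [mul_left_comm (2 : F)]
        exact this
  have hac : ∀ s v, S.Xa s * S.Xc v = S.Xd (2 * s * v) * S.Xc v * S.Xa s := fun s =>
    S.all_of_sq _ (by simp [Xc_zero, Xd_zero]) (by simpa using hac1 s)
      (fun x y hx hy => by
        calc S.Xa s * S.Xc (x + y) = S.Xa s * S.Xc x * S.Xc y := by rw [Xc_add, mul_assoc]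
          _ = S.Xd (2 * s * x) * S.Xc x * (S.Xa s * S.Xc y) := by rw [hx, mul_assoc]
          _ = S.Xd (2 * s * x) * (S.Xc x * S.Xd (2 * s * y)) * S.Xc y * S.Xa s := by rw [hy]; simp [mul_assoc]
          _ = _ := by rw [(hcd _ _).eq, mul_add, Xd_add, Xc_add]; simp [mul_assoc])
      fun x hx => by
        have := congrArg (fun v => S.ha * S.hb * S.hb * v * (S.ha * S.hb * S.hb)⁻¹) hx
        simp only [← conj_mul, (S.habb _).1, (S.habb _).2.2.1, (S.habb _).2.2.2] at this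
        rw [mul_left_comm (2 * s)]
        exact this
  have hwa : ∀ v, S.wa * S.Xc v * S.wa⁻¹ = S.Xc (-v) := by
    have h1 : S.wa * S.Xc (-1) * S.wa⁻¹ = S.Xc (-(-1)) := by
      have := S.refl_c
      simp only [Xc, wa, neg_neg] at this ⊢
      have h' := congrArg (·⁻¹) this
      simp only [_root_.mul_inv_rev, ← map_inv, inv_inv, ← xs_neg, neg_neg, mul_assoc] at h' ⊢
      exact h'
    refine S.all_of_zeta _ (by simp [Xc_zero]) ?_ ?_
    · have h' := congrArg (·⁻¹) h1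
      have hn : ∀ v, (S.Xc v)⁻¹ = S.Xc (-v) := fun v =>
        inv_eq_of_mul_eq_one_right (by rw [← Xc_add, add_neg_cancel, Xc_zero])
      simp only [_root_.mul_inv_rev, inv_inv, hn, neg_neg, ← mul_assoc] at h'
      exact h'
    · intro x hx
      have := congrArg (fun v => S.hb * v * S.hb⁻¹) hx
      simp only [S.hb_Xc] at this
      rw [show S.hb * (S.wa * S.Xc x * S.wa⁻¹) * S.hb⁻¹ = (S.hb * S.wa) * S.Xc x * (S.hb * S.wa)⁻¹ by
        simp [mul_assoc], hb_wa, show S.ha⁻¹ * S.wa * S.hb * S.Xc x * (S.ha⁻¹ * S.wa * S.hb)⁻¹ =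
          S.ha⁻¹ * (S.wa * (S.hb * S.Xc x * S.hb⁻¹) * S.wa⁻¹) * S.ha by simp [mul_assoc], S.hb_Xc, mul_neg] at this
      have h2 : S.wa * S.Xc ((S.ζ : F) * x) * S.wa⁻¹ = S.ha * S.Xc (-((S.ζ : F) * x)) * S.ha⁻¹ := by
        rw [← this]; simp [mul_assoc]
      rwa [S.ha_Xc] at h2
  have hwb : ∀ w, S.wb * S.Xd w * S.wb⁻¹ = S.Xd w := by
    refine S.all_of_sq _ (by simp [Xd_zero]) ?_ (fun x y hx hy => ?_) fun x hx => ?_
    · exact S.refl_d
    · rw [Xd_add, ← conj_mul, hx, hy]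
    · have := congrArg (fun v => S.ha * v * S.ha⁻¹) hx
      simp only [S.ha_Xd] at this
      rw [show S.ha * (S.wb * S.Xd x * S.wb⁻¹) * S.ha⁻¹ = (S.ha * S.wb) * S.Xd x * (S.ha * S.wb)⁻¹ by
        simp [mul_assoc], ha_wb, show S.hb⁻¹ * S.hb⁻¹ * S.wb * S.ha * S.Xd x * (S.hb⁻¹ * S.hb⁻¹ * S.wb * S.ha)⁻¹ =
          S.hb⁻¹ * S.hb⁻¹ * (S.wb * (S.ha * S.Xd x * S.ha⁻¹) * S.wb⁻¹) * (S.hb * S.hb) by simp [mul_assoc],
        S.ha_Xd] at this
      have h2 : S.wb * S.Xd ((S.ζ : F) ^ 2 * x) * S.wb⁻¹ =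
          S.hb * (S.hb * S.Xd ((S.ζ : F) ^ 2 * x) * S.hb⁻¹) * S.hb⁻¹ := by
        conv_rhs => rw [← this]
        simp [mul_assoc]
      rwa [S.hb_Xd, S.hb_Xd] at h2
  exact ⟨hab, hac, had, hbc, hbd, hcd, hwa, hwb⟩

end Frame

end Cfsg.Lib.Linear.ShortPres.Four
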